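/-
Helper14 library (FlatOpen): localization plumbing for flatness over a base ring `A` of
localizations of a module over an `A`-algebra `S`.
-/
import Mathlib

set_option autoImplicit false
universe u
open TensorProduct

namespace Groth.Agent.Lib.Helper14.FlatOpen

section Tower
variable {A S M M' : Type*} [CommRing A] [CommRing S] [Algebra A S]
  [AddCommGroup M] [Module A M] [Module S M] [IsScalarTower A S M]
  [AddCommGroup M'] [Module A M'] [Module S M'] [IsScalarTower A S M']

/-- flatness over `A` passes to a localization over an `A`-algebra `S`. -/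
theorem flat_of_isLocalizedModule (p : Submonoid S) (f : M →ₗ[S] M')
    [IsLocalizedModule p f] (h : Module.Flat A M) : Module.Flat A M' := by
  rw [Module.Flat.iff_lTensor_injectiveₛ]
  intro P _ _ N
  have h := (Module.Flat.iff_lTensor_injectiveₛ (R := A) (M := M)).1 h (P := P) N
  rw [← AlgebraTensorModule.coe_lTensor (A := S)] at h ⊢
  rw [← IsLocalizedModule.map_lTensor (S := p) (f := N.subtype) (g := f)]
  exact IsLocalizedModule.map_injective p _ _ _ h

/-- two localizations of the same module at the same submonoid: flatness transfers. -/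
theorem flat_of_isLocalizedModule_of_isLocalizedModule {M'' : Type*} [AddCommGroup M'']
    [Module A M''] [Module S M''] [IsScalarTower A S M'']
    (p₁ p₂ : Submonoid S) (hle : p₁ ≤ p₂) (f₁ : M →ₗ[S] M') (f₂ : M →ₗ[S] M'')
    [IsLocalizedModule p₁ f₁] [IsLocalizedModule p₂ f₂] (h : Module.Flat A M') :
    Module.Flat A M'' :=
  flat_of_isLocalizedModule p₂ (IsLocalizedModule.liftOfLE p₁ p₂ hle f₁ f₂) h

end Tower

section LocLoc
variable {S S' N N' N'' : Type*} [CommRing S] [CommRing S'] [Algebra S S'] (g : S)
  [IsLocalization.Away g S']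
  [AddCommGroup N] [Module S N] [AddCommGroup N'] [Module S N'] [Module S' N']
  [IsScalarTower S S' N'] [AddCommGroup N''] [Module S N''] [Module S' N'']
  [IsScalarTower S S' N'']

/-- localizing `N_g` at a prime `Q'` of `S_g` is the localization of `N` at the contraction. -/
theorem isLocalizedModule_comp_of_away (f : N →ₗ[S] N') [IsLocalizedModule (Submonoid.powers g) f]
    (Q' : Ideal S') [Q'.IsPrime] (l : N' →ₗ[S'] N'') [IsLocalizedModule Q'.primeCompl l] :
    IsLocalizedModule (Q'.comap (algebraMap S S')).primeCompl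
      ((l.restrictScalars S).comp f) := by
  have hg : IsUnit (algebraMap S S' g) := IsLocalization.Away.algebraMap_isUnit g
  have hgQ : ∀ k : ℕ, algebraMap S S' (g ^ k) ∉ Q' := fun k h =>
    Ideal.IsPrime.ne_top inferInstance (Ideal.eq_top_of_isUnit_mem _ h (by rw [map_pow]; exact hg.pow k))
  -- every element of `S'` times a power of `g` comes from `S`
  have hnum : ∀ t' : S', ∃ (t : S) (m : ℕ), t' * algebraMap S S' (g ^ m) = algebraMap S S' t := by
    intro t'
    obtain ⟨⟨t, ⟨_, m, rfl⟩⟩, h⟩ := IsLocalization.surj (Submonoid.powers g) t'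
    exact ⟨t, m, h⟩
  constructor
  · intro s
    have hs : algebraMap S S' s ∈ Q'.primeCompl := s.2
    have h1 := IsLocalizedModule.map_units l ⟨algebraMap S S' s, hs⟩
    rw [Module.End.isUnit_iff] at h1 ⊢
    convert h1 using 1
    funext y
    simp only [Module.algebraMap_end_apply]
    exact (algebraMap_smul S' (s : S) y).symm
  · intro y
    obtain ⟨⟨x', t'⟩, h1⟩ := IsLocalizedModule.surj Q'.primeCompl l y
    obtain ⟨⟨x, ⟨_, k, rfl⟩⟩, h2⟩ := IsLocalizedModule.surj (Submonoid.powers g) f x'
    obtain ⟨t, m, ht⟩ := hnum t'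
    have htQ : t * g ^ k ∈ (Q'.comap (algebraMap S S')).primeCompl := by
      intro hmem
      have hmem' : algebraMap S S' (t * g ^ k) ∈ Q' := hmem
      rw [map_mul, ← ht] at hmem'
      rcases Ideal.IsPrime.mem_or_mem inferInstance hmem' with h | h
      · rcases Ideal.IsPrime.mem_or_mem inferInstance h with h | h
        · exact t'.2 h
        · exact hgQ m h
      · exact hgQ k h
    refine ⟨⟨g ^ m • x, ⟨t * g ^ k, htQ⟩⟩, ?_⟩
    have h1' : (t' : S') • y = l x' := h1
    have h2' : g ^ k • x' = f x := h2
    show (t * g ^ k) • y = l (f (g ^ m • x))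
    calc (t * g ^ k) • y = (algebraMap S S' (t * g ^ k)) • y := (algebraMap_smul S' _ y).symm
      _ = (algebraMap S S' (g ^ m) * algebraMap S S' (g ^ k)) • ((t' : S') • y) := by
          rw [map_mul, ← ht, ← mul_smul]; ring_nf
      _ = (algebraMap S S' (g ^ m) * algebraMap S S' (g ^ k)) • l x' := by rw [h1']
      _ = l ((algebraMap S S' (g ^ m) * algebraMap S S' (g ^ k)) • x') := (map_smul l _ _).symm
      _ = l (g ^ m • (g ^ k • x')) := by
          rw [mul_smul, algebraMap_smul, algebraMap_smul]
      _ = l (f (g ^ m • x)) := by rw [h2', ← f.map_smul]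
  · intro x₁ x₂ h
    simp only [LinearMap.comp_apply, LinearMap.restrictScalars_apply] at h
    obtain ⟨t', h1⟩ := IsLocalizedModule.exists_of_eq (S := Q'.primeCompl) (f := l) h
    obtain ⟨t, m, ht⟩ := hnum t'
    have h2 : f (t • x₁) = f (t • x₂) := by
      rw [map_smul, map_smul, ← algebraMap_smul S' t, ← algebraMap_smul S' t (f x₂), ← ht,
        mul_comm, mul_smul, mul_smul]
      simp only [Submonoid.smul_def] at h1
      rw [h1]
    obtain ⟨⟨_, k, rfl⟩, h3⟩ := IsLocalizedModule.exists_of_eq (S := Submonoid.powers g) (f := f) h2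
    simp only [Submonoid.smul_def] at h3
    have htQ : g ^ k * t ∈ (Q'.comap (algebraMap S S')).primeCompl := by
      intro hmem
      have hmem' : algebraMap S S' (g ^ k * t) ∈ Q' := hmem
      rw [map_mul] at hmem'
      rcases Ideal.IsPrime.mem_or_mem inferInstance hmem' with h | h
      · exact hgQ k h
      · have : t' * algebraMap S S' (g ^ m) ∈ Q' := by rw [ht]; exact h
        rcases Ideal.IsPrime.mem_or_mem inferInstance this with h | h
        · exact t'.2 h
        · exact hgQ m h
    refine ⟨⟨g ^ k * t, htQ⟩, ?_⟩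
    simp only [Submonoid.smul_def]
    rw [mul_smul, mul_smul, h3]

end LocLoc

section FlatOnD
variable {A S N : Type u} [CommRing A] [CommRing S] [Algebra A S]
  [AddCommGroup N] [Module A N] [Module S N] [IsScalarTower A S N]

theorem flat_prime_away_iff (g : S) (Q' : Ideal (Localization.Away g)) [Q'.IsPrime] :
    Module.Flat A (LocalizedModule Q'.primeCompl (LocalizedModule (Submonoid.powers g) N)) ↔
      Module.Flat A (LocalizedModule (Q'.comap (algebraMap S (Localization.Away g))).primeCompl N) := by
  haveI := isLocalizedModule_comp_of_away g (LocalizedModule.mkLinearMap (Submonoid.powers g) N) Q'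
    (LocalizedModule.mkLinearMap Q'.primeCompl (LocalizedModule (Submonoid.powers g) N))
  constructor
  · intro h
    exact flat_of_isLocalizedModule_of_isLocalizedModule
      (Q'.comap (algebraMap S (Localization.Away g))).primeCompl
      (Q'.comap (algebraMap S (Localization.Away g))).primeCompl le_rfl
      (((LocalizedModule.mkLinearMap Q'.primeCompl
        (LocalizedModule (Submonoid.powers g) N)).restrictScalars S).comp
        (LocalizedModule.mkLinearMap (Submonoid.powers g) N))
      (LocalizedModule.mkLinearMap (Q'.comap (algebraMap S (Localization.Away g))).primeCompl N) h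
  · intro h
    exact flat_of_isLocalizedModule_of_isLocalizedModule
      (Q'.comap (algebraMap S (Localization.Away g))).primeCompl
      (Q'.comap (algebraMap S (Localization.Away g))).primeCompl le_rfl
      (LocalizedModule.mkLinearMap (Q'.comap (algebraMap S (Localization.Away g))).primeCompl N)
      (((LocalizedModule.mkLinearMap Q'.primeCompl
        (LocalizedModule (Submonoid.powers g) N)).restrictScalars S).comp
        (LocalizedModule.mkLinearMap (Submonoid.powers g) N)) h

/-- pointwise flatness on the basic open `D(g)` -/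
def FlatOnD (A : Type u) {S : Type u} (N : Type u) [CommRing A] [CommRing S] [Algebra A S]
    [AddCommGroup N] [Module A N] [Module S N] [IsScalarTower A S N] (g : S) : Prop :=
  ∀ (Q : Ideal S) [Q.IsPrime], g ∉ Q → Module.Flat A (LocalizedModule Q.primeCompl N)

theorem flatOnD_iff (g : S) :
    FlatOnD A N g ↔ Module.Flat A (LocalizedModule (Submonoid.powers g) N) := by
  constructor
  · intro h
    refine Module.flat_of_isLocalized_maximal (R := A) (Localization.Away g)
      (LocalizedModule (Submonoid.powers g) N)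
      (fun P _ => LocalizedModule P.primeCompl (LocalizedModule (Submonoid.powers g) N))
      (fun P _ => LocalizedModule.mkLinearMap P.primeCompl _) ?_
    intro P hP
    haveI : P.IsPrime := hP.isPrime
    rw [flat_prime_away_iff]
    apply h
    intro hg
    rw [Ideal.mem_comap] at hg
    exact Ideal.IsPrime.ne_top inferInstance
      (Ideal.eq_top_of_isUnit_mem _ hg (IsLocalization.Away.algebraMap_isUnit g))
  · intro h Q _ hg
    have hle : Submonoid.powers g ≤ Q.primeCompl := by
      rintro _ ⟨k, rfl⟩
      exact fun hk => hg (Ideal.IsPrime.mem_of_pow_mem inferInstance k hk)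
    exact flat_of_isLocalizedModule_of_isLocalizedModule (Submonoid.powers g) Q.primeCompl hle
      (LocalizedModule.mkLinearMap (Submonoid.powers g) N)
      (LocalizedModule.mkLinearMap Q.primeCompl N) h
end FlatOnD

section AwayAway
variable {S S' N N' N'' : Type*} [CommRing S] [CommRing S'] [Algebra S S'] (g : S)
  [IsLocalization.Away g S']
  [AddCommGroup N] [Module S N] [AddCommGroup N'] [Module S N'] [Module S' N']
  [IsScalarTower S S' N'] [AddCommGroup N''] [Module S N''] [Module S' N'']
  [IsScalarTower S S' N'']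

theorem isLocalizedModule_comp_away_away (h : S) (h' : S') (k : ℕ)
    (hh : h' * algebraMap S S' g ^ k = algebraMap S S' h)
    (f : N →ₗ[S] N') [IsLocalizedModule (Submonoid.powers g) f]
    (l : N' →ₗ[S'] N'') [IsLocalizedModule (Submonoid.powers h') l] :
    IsLocalizedModule (Submonoid.powers (g * h)) ((l.restrictScalars S).comp f) := by
  have hg : IsUnit (algebraMap S S' g) := IsLocalization.Away.algebraMap_isUnit g
  have hgN : IsUnit (algebraMap S' (Module.End S' N'') (algebraMap S S' g)) := hg.map _
  have hhN : IsUnit (algebraMap S' (Module.End S' N'') h') :=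
    IsLocalizedModule.map_units l ⟨h', Submonoid.mem_powers h'⟩
  have hpow : ∀ m : ℕ, algebraMap S S' (h ^ m) = h' ^ m * algebraMap S S' g ^ (k * m) := by
    intro m
    rw [map_pow, ← hh, mul_pow, pow_mul]
  constructor
  · rintro ⟨_, j, rfl⟩
    have h1 : IsUnit (algebraMap S' (Module.End S' N'') (algebraMap S S' ((g * h) ^ j))) := by
      rw [map_pow, map_mul, ← hh, map_pow, map_mul, map_mul, map_pow]
      exact ((hgN.mul (hhN.mul (hgN.pow k))).pow j)
    rw [Module.End.isUnit_iff] at h1 ⊢
    convert h1 using 1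
    funext y
    simp only [Module.algebraMap_end_apply]
    exact (algebraMap_smul S' ((g * h) ^ j) y).symm
  · intro y
    obtain ⟨⟨x', ⟨_, m, rfl⟩⟩, h1⟩ := IsLocalizedModule.surj (Submonoid.powers h') l y
    obtain ⟨⟨x, ⟨_, i, rfl⟩⟩, h2⟩ := IsLocalizedModule.surj (Submonoid.powers g) f x'
    have h1' : h' ^ m • y = l x' := h1
    have h2' : g ^ i • x' = f x := h2
    -- use the exponent `e = m + i`
    refine ⟨⟨(g ^ (k * m) * (g ^ m * h ^ i)) • x, ⟨(g * h) ^ (m + i), m + i, rfl⟩⟩, ?_⟩
    show (g * h) ^ (m + i) • y = l (f ((g ^ (k * m) * (g ^ m * h ^ i)) • x))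
    have e1 : (g * h) ^ (m + i) = (g ^ m * h ^ i) * g ^ i * h ^ m := by ring
    calc (g * h) ^ (m + i) • y
        = algebraMap S S' ((g ^ m * h ^ i) * g ^ i * h ^ m) • y := by
          rw [e1]; exact (algebraMap_smul S' _ y).symm
      _ = (algebraMap S S' (g ^ m * h ^ i) * algebraMap S S' (g ^ i) *
            algebraMap S S' g ^ (k * m)) • (h' ^ m • y) := by
          rw [map_mul, map_mul, hpow m, ← mul_smul]; ring_nf
      _ = l ((algebraMap S S' (g ^ m * h ^ i) * algebraMap S S' (g ^ i) *
            algebraMap S S' g ^ (k * m)) • x') := by rw [h1', map_smul]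
      _ = l ((g ^ m * h ^ i) • (g ^ (k * m)) • (g ^ i • x')) := by
          congr 1
          rw [← map_pow, mul_smul, mul_smul, algebraMap_smul, algebraMap_smul, algebraMap_smul,
            smul_comm (g ^ i) (g ^ (k * m)) x']
      _ = l (f ((g ^ (k * m) * (g ^ m * h ^ i)) • x)) := by
          rw [h2', ← f.map_smul, ← f.map_smul, ← mul_smul, mul_comm]
  · intro x₁ x₂ hx
    simp only [LinearMap.comp_apply, LinearMap.restrictScalars_apply] at hx
    obtain ⟨⟨_, m, rfl⟩, h1⟩ := IsLocalizedModule.exists_of_eq (S := Submonoid.powers h') (f := l) hx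
    have h1' : h' ^ m • f x₁ = h' ^ m • f x₂ := h1
    have h2 : f (h ^ m • x₁) = f (h ^ m • x₂) := by
      rw [map_smul, map_smul, ← algebraMap_smul S' (h ^ m), ← algebraMap_smul S' (h ^ m) (f x₂),
        hpow m, mul_comm, mul_smul, mul_smul, h1']
    obtain ⟨⟨_, i, rfl⟩, h3⟩ :=
      IsLocalizedModule.exists_of_eq (S := Submonoid.powers g) (f := f) h2
    have h3' : g ^ i • h ^ m • x₁ = g ^ i • h ^ m • x₂ := h3
    refine ⟨⟨(g * h) ^ (i + m), i + m, rfl⟩, ?_⟩
    show (g * h) ^ (i + m) • x₁ = (g * h) ^ (i + m) • x₂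
    have e1 : (g * h) ^ (i + m) = (g ^ m * h ^ i) * (g ^ i * h ^ m) := by ring
    rw [e1, mul_smul (g ^ m * h ^ i) _ x₁, mul_smul (g ^ m * h ^ i) _ x₂, mul_smul (g ^ i) (h ^ m) x₁,
      mul_smul (g ^ i) (h ^ m) x₂, h3']

end AwayAway

end Groth.Agent.Lib.Helper14.FlatOpen
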