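/-
Helper14 library (FlatOpen): the elementwise Tor-vanishing condition `TVa` for a principal ideal
(`a x = 0 → x ∈ ann(a) X`), and its behaviour under localization.
-/
import Groth.Agent.Lib.Helper14.FlatOpen.Loc

set_option autoImplicit false
universe u
open TensorProduct

namespace Groth.Agent.Lib.Helper14.FlatOpen

section Ann
variable {A : Type*} [CommRing A]

/-- the annihilator of the element `a` -/
def annI (a : A) : Ideal A := LinearMap.ker (LinearMap.toSpanSingleton A A a)

theorem mem_annI {a c : A} : c ∈ annI a ↔ c * a = 0 := by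
  unfold annI
  rw [LinearMap.mem_ker, LinearMap.toSpanSingleton_apply, smul_eq_mul]

variable {X : Type*} [AddCommGroup X] [Module A X]

/-- Tor-vanishing for `(a)`, elementwise -/
def TVa (A : Type*) [CommRing A] (X : Type*) [AddCommGroup X] [Module A X] (a : A) : Prop :=
  ∀ x : X, a • x = 0 → x ∈ annI a • (⊤ : Submodule A X)

theorem smul_eq_zero_of_mem_annI_smul {a : A} {v : X} (hv : v ∈ annI a • (⊤ : Submodule A X)) :
    a • v = 0 := by
  refine Submodule.smul_induction_on hv ?_ ?_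
  · intro c hc w _
    rw [← mul_smul, mul_comm, mem_annI.1 hc, zero_smul]
  · intro v w hv hw
    rw [smul_add, hv, hw, add_zero]

theorem TVa_of_flat (a : A) [Module.Flat A X] : TVa A X a := by
  intro x hx
  have h0 : ∑ i : Fin 1, (fun _ => a) i • (fun _ => x) i = 0 := by
    simpa using hx
  obtain ⟨k, c, y, hxy, hc⟩ := Module.Flat.isTrivialRelation_of_sum_smul_eq_zero h0
  have h1 := hxy 0
  simp only at h1
  rw [h1]
  refine Submodule.sum_mem _ (fun j _ => Submodule.smul_mem_smul ?_ Submodule.mem_top)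
  have := hc j
  simp only [Finset.univ_unique, Fin.default_eq_zero, Finset.sum_singleton] at this
  rw [mem_annI, mul_comm]
  exact this

theorem TVa_of_linearEquiv {Y : Type*} [AddCommGroup Y] [Module A Y] (e : X ≃ₗ[A] Y) (a : A)
    (h : TVa A X a) : TVa A Y a := by
  intro y hy
  have h1 : a • e.symm y = 0 := by rw [← map_smul, hy, map_zero]
  have h2 := h _ h1
  have h3 : e (e.symm y) ∈ (annI a • (⊤ : Submodule A X)).map e.toLinearMap := ⟨_, h2, rfl⟩
  rw [Submodule.map_smul'', Submodule.map_top, LinearEquiv.range, LinearEquiv.apply_symm_apply] at h3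
  exact h3

end Ann

theorem mem_smul_top_of_linearMap {A X Y : Type*} [CommRing A] [AddCommGroup X] [Module A X]
    [AddCommGroup Y] [Module A Y] (g : X →ₗ[A] Y) (𝔞 : Ideal A) {x : X}
    (hx : x ∈ 𝔞 • (⊤ : Submodule A X)) : g x ∈ 𝔞 • (⊤ : Submodule A Y) := by
  have : g x ∈ (𝔞 • (⊤ : Submodule A X)).map g := ⟨x, hx, rfl⟩
  rw [Submodule.map_smul''] at this
  exact Submodule.smul_mono le_rfl le_top this

section LB
variable {A S X X' : Type*} [CommRing A] [CommRing S] [Algebra A S]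
  [AddCommGroup X] [Module A X] [Module S X] [IsScalarTower A S X]
  [AddCommGroup X'] [Module A X'] [Module S X'] [IsScalarTower A S X']

theorem smul_mem_ideal_smul_top (𝔞 : Ideal A) (s : S) {x : X}
    (hx : x ∈ 𝔞 • (⊤ : Submodule A X)) : s • x ∈ 𝔞 • (⊤ : Submodule A X) := by
  refine Submodule.smul_induction_on hx ?_ ?_
  · intro c hc w _
    rw [smul_comm]
    exact Submodule.smul_mem_smul hc Submodule.mem_top
  · intro v w hv hw
    rw [smul_add]
    exact add_mem hv hw

/-- membership in `𝔞 X_T` descends to `X` after multiplying by an element of `T`. -/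
theorem exists_smul_mem_of_map_mem (T : Submonoid S) (f : X →ₗ[S] X') [IsLocalizedModule T f]
    (𝔞 : Ideal A) (x : X) (hx : f x ∈ 𝔞 • (⊤ : Submodule A X')) :
    ∃ u ∈ T, u • x ∈ 𝔞 • (⊤ : Submodule A X) := by
  have key : ∀ y ∈ 𝔞 • (⊤ : Submodule A X'), ∃ u ∈ T, ∃ x' ∈ 𝔞 • (⊤ : Submodule A X),
      u • y = f x' := by
    intro y hy
    refine Submodule.smul_induction_on hy ?_ ?_
    · intro c hc z _
      obtain ⟨⟨x₀, s⟩, hs⟩ := IsLocalizedModule.surj T f z
      have hs' : (s : S) • z = f x₀ := hs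
      refine ⟨s, s.2, c • x₀, Submodule.smul_mem_smul hc Submodule.mem_top, ?_⟩
      rw [smul_comm, hs', ← algebraMap_smul S c (f x₀), ← f.map_smul, algebraMap_smul]
    · rintro y₁ y₂ ⟨u₁, hu₁, x₁, hx₁, h₁⟩ ⟨u₂, hu₂, x₂, hx₂, h₂⟩
      refine ⟨u₁ * u₂, T.mul_mem hu₁ hu₂, u₂ • x₁ + u₁ • x₂,
        add_mem (smul_mem_ideal_smul_top 𝔞 u₂ hx₁) (smul_mem_ideal_smul_top 𝔞 u₁ hx₂), ?_⟩
      rw [smul_add, map_add, map_smul, map_smul, ← h₁, ← h₂, ← mul_smul, ← mul_smul, mul_comm u₂ u₁]
  obtain ⟨u, hu, x', hx', h⟩ := key _ hx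
  have h0 : f (u • x) = f x' := by rw [map_smul, h]
  obtain ⟨v, hv⟩ := IsLocalizedModule.exists_of_eq (S := T) (f := f) h0
  have hv' : (v : S) • u • x = (v : S) • x' := hv
  refine ⟨v * u, T.mul_mem v.2 hu, ?_⟩
  rw [mul_smul, hv']
  exact smul_mem_ideal_smul_top 𝔞 _ hx'

end LB

end Groth.Agent.Lib.Helper14.FlatOpen
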