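/-
Helper14 library (FlatOpen): base change along a quotient `A → A/I` of localizations of modules.
-/
import Groth.Agent.Lib.Helper14.FlatOpen.TVa
set_option autoImplicit false
universe u
open TensorProduct
namespace Groth.Agent.Lib.Helper14.FlatOpen

section QuotBC
variable {A X Y : Type*} [CommRing A] (I : Ideal A) [AddCommGroup X] [Module A X]
  [AddCommGroup Y] [Module A Y] [Module (A ⧸ I) Y] [IsScalarTower A (A ⧸ I) Y]

theorem smul_top_le_ker (ψ : X →ₗ[A] Y) : I • (⊤ : Submodule A X) ≤ LinearMap.ker ψ := by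
  rw [Submodule.smul_le]
  intro c hc x _
  rw [LinearMap.mem_ker, map_smul, ← algebraMap_smul (A ⧸ I) c (ψ x)]
  rw [show algebraMap A (A ⧸ I) c = Ideal.Quotient.mk I c from rfl,
    Ideal.Quotient.eq_zero_iff_mem.2 hc, zero_smul]

/-- a surjection onto an `A/I`-module with kernel `I X` is a base change along `A → A/I`. -/
theorem isBaseChange_quot_of_surjective (ψ : X →ₗ[A] Y) (hs : Function.Surjective ψ)
    (hk : ∀ x, ψ x = 0 → x ∈ I • (⊤ : Submodule A X)) : IsBaseChange (A ⧸ I) ψ := by
  let e₂ : (X ⧸ I • (⊤ : Submodule A X)) ≃ₗ[A] Y :=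
    LinearEquiv.ofBijective ((I • (⊤ : Submodule A X)).liftQ ψ (smul_top_le_ker I ψ)) (by
      constructor
      · rw [← LinearMap.ker_eq_bot, Submodule.ker_liftQ, eq_bot_iff]
        rintro _ ⟨x, hx, rfl⟩
        rw [Submodule.mem_bot, Submodule.mkQ_apply, Submodule.Quotient.mk_eq_zero]
        exact hk x hx
      · intro y
        obtain ⟨x, rfl⟩ := hs y
        exact ⟨Submodule.Quotient.mk x, rfl⟩)
  let e : (A ⧸ I) ⊗[A] X ≃ₗ[A ⧸ I] Y :=
    (quotTensorEquivQuotSMul X I ≪≫ₗ e₂).extendScalarsOfSurjective Ideal.Quotient.mk_surjective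
  refine IsBaseChange.of_equiv e ?_
  intro x
  show e₂ (quotTensorEquivQuotSMul X I (1 ⊗ₜ x)) = ψ x
  rw [quotTensorEquivQuotSMul_mk_one_tmul]
  rfl

theorem ker_le_of_isBaseChange_quot (f : X →ₗ[A] Y) (hf : IsBaseChange (A ⧸ I) f) (x : X)
    (hx : f x = 0) : x ∈ I • (⊤ : Submodule A X) := by
  have h1 : hf.equiv ((1 : A ⧸ I) ⊗ₜ[A] x) = 0 := by rw [hf.equiv_tmul, one_smul, hx]
  have h2 : ((1 : A ⧸ I) ⊗ₜ[A] x) = 0 := hf.equiv.injective (by rw [h1, map_zero])
  have h3 := congrArg (quotTensorEquivQuotSMul X I) h2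
  rw [quotTensorEquivQuotSMul_mk_one_tmul, map_zero, Submodule.Quotient.mk_eq_zero] at h3
  exact h3

theorem surjective_of_isBaseChange_quot (f : X →ₗ[A] Y) (hf : IsBaseChange (A ⧸ I) f) :
    Function.Surjective f := by
  intro y
  obtain ⟨z, rfl⟩ := hf.equiv.surjective y
  induction z with
  | zero => exact ⟨0, by simp⟩
  | add a b ha hb =>
    obtain ⟨x₁, h₁⟩ := ha
    obtain ⟨x₂, h₂⟩ := hb
    exact ⟨x₁ + x₂, by rw [map_add, map_add, h₁, h₂]⟩
  | tmul c x =>
    obtain ⟨r, rfl⟩ := Ideal.Quotient.mk_surjective c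
    refine ⟨r • x, ?_⟩
    rw [hf.equiv_tmul, map_smul, ← algebraMap_smul (A ⧸ I) r (f x)]
    rfl

end QuotBC

section LocBC
variable {A P P' M M' : Type u} [CommRing A] [CommRing P] [CommRing P'] [Algebra A P]
  [Algebra P P'] [Algebra A P'] [IsScalarTower A P P']
  [AddCommGroup M] [Module A M] [Module P M] [IsScalarTower A P M]
  [AddCommGroup M'] [Module A M'] [Module P M'] [Module P' M'] [IsScalarTower P P' M']
  [IsScalarTower A P M']

/-- the map induced on localizations by a `P`-linear map `M → M'` into a `P'`-module. -/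
noncomputable def locMap (T : Submonoid P) (φ : M →ₗ[P] M') :
    LocalizedModule T M →ₗ[P] LocalizedModule (Algebra.algebraMapSubmonoid P' T) M' :=
  haveI : IsLocalizedModule T ((LocalizedModule.mkLinearMap (Algebra.algebraMapSubmonoid P' T)
      M').restrictScalars P) := IsLocalizedModule.restrictScalars T _
  IsLocalizedModule.map T (LocalizedModule.mkLinearMap T M)
    ((LocalizedModule.mkLinearMap (Algebra.algebraMapSubmonoid P' T) M').restrictScalars P) φ

theorem locMap_surjective (T : Submonoid P) (φ : M →ₗ[P] M') (hφ : Function.Surjective φ) :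
    Function.Surjective (locMap (P' := P') T φ) := by
  haveI : IsLocalizedModule T ((LocalizedModule.mkLinearMap (Algebra.algebraMapSubmonoid P' T)
      M').restrictScalars P) := IsLocalizedModule.restrictScalars T _
  exact IsLocalizedModule.map_surjective T _ _ φ hφ

theorem locMap_ker (T : Submonoid P) (φ : M →ₗ[P] M') (I : Ideal A)
    (hk : ∀ m, φ m = 0 → m ∈ I • (⊤ : Submodule A M)) (x : LocalizedModule T M)
    (hx : locMap (P' := P') T φ x = 0) : x ∈ I • (⊤ : Submodule A (LocalizedModule T M)) := by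
  haveI : IsLocalizedModule T ((LocalizedModule.mkLinearMap (Algebra.algebraMapSubmonoid P' T)
      M').restrictScalars P) := IsLocalizedModule.restrictScalars T _
  obtain ⟨⟨m, t⟩, rfl⟩ := IsLocalizedModule.mk'_surjective T (LocalizedModule.mkLinearMap T M) x
  simp only [Function.uncurry_apply_pair] at hx ⊢
  unfold locMap at hx
  rw [IsLocalizedModule.map_mk', IsLocalizedModule.mk'_eq_zero'] at hx
  obtain ⟨s, hs⟩ := hx
  have h1 : φ ((s : P) • m) = 0 := by rw [map_smul]; exact hs
  have h2 := hk _ h1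
  let g : M →ₗ[A] LocalizedModule T M :=
    { toFun := fun m' => IsLocalizedModule.mk' (LocalizedModule.mkLinearMap T M) m' (s * t)
      map_add' := fun m₁ m₂ => IsLocalizedModule.mk'_add _ m₁ m₂ (s * t)
      map_smul' := fun c m' => IsLocalizedModule.mk'_smul _ c m' (s * t) }
  have h3 : IsLocalizedModule.mk' (LocalizedModule.mkLinearMap T M) m t = g ((s : P) • m) := by
    show _ = IsLocalizedModule.mk' (LocalizedModule.mkLinearMap T M) ((s : P) • m) (s * t)
    rw [← Submonoid.smul_def, IsLocalizedModule.mk'_cancel_left]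
  rw [h3]
  exact mem_smul_top_of_linearMap g I h2

end LocBC
end Groth.Agent.Lib.Helper14.FlatOpen
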