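/-
Helper14 library (FlatOpen): the criterion step of the FlatStage engine, for `J = ⊥` and without
the quotient functor `QJ`:  if the model module is flat modulo `a`, satisfies Tor-vanishing for
`(a)` and is flat after inverting `a`, then it is flat (`crit_step₀`).
-/
import Groth.Agent.Lib.Helper14.FlatStage.Main
import Groth.Agent.Lib.Helper14.FlatOpen.TVa

set_option autoImplicit false
universe u
open TensorProduct
attribute [local instance] MvPolynomial.algebraMvPolynomial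

namespace Groth.Agent.Lib.Helper14.FlatStage

section AwayMap
variable {R₀ : Type u} [CommRing R₀] {D D' : Type u} [CommRing D] [Algebra R₀ D] [CommRing D']
  [Algebra R₀ D'] (a₀ : R₀) (φ : D →ₐ[R₀] D')

theorem isUnit_awayMap :
    IsUnit (((algebraMap D' (Localization.Away (algebraMap R₀ D' a₀))).comp (φ : D →+* D'))
      (algebraMap R₀ D a₀)) := by
  have : ((algebraMap D' (Localization.Away (algebraMap R₀ D' a₀))).comp (φ : D →+* D'))
      (algebraMap R₀ D a₀) = algebraMap D' _ (algebraMap R₀ D' a₀) := by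
    show algebraMap D' _ (φ (algebraMap R₀ D a₀)) = _
    rw [φ.commutes]
  rw [this]
  exact IsLocalization.Away.algebraMap_isUnit (algebraMap R₀ D' a₀)

/-- the map `D_a → D'_a` induced by an `R₀`-algebra map, as an `R₀`-algebra map. -/
noncomputable def awayMap :
    Localization.Away (algebraMap R₀ D a₀) →ₐ[R₀] Localization.Away (algebraMap R₀ D' a₀) :=
  { IsLocalization.Away.lift (algebraMap R₀ D a₀) (isUnit_awayMap a₀ φ) with
    commutes' := by
      intro r
      show IsLocalization.Away.lift (algebraMap R₀ D a₀) (isUnit_awayMap a₀ φ)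
        (algebraMap R₀ (Localization.Away (algebraMap R₀ D a₀)) r) = _
      rw [IsScalarTower.algebraMap_apply R₀ D (Localization.Away (algebraMap R₀ D a₀)),
        IsLocalization.Away.lift_eq]
      show algebraMap D' _ (φ (algebraMap R₀ D r)) = _
      rw [φ.commutes, ← IsScalarTower.algebraMap_apply] }

theorem awayMap_algebraMap (c : D) :
    awayMap a₀ φ (algebraMap D (Localization.Away (algebraMap R₀ D a₀)) c) =
      algebraMap D' (Localization.Away (algebraMap R₀ D' a₀)) (φ c) := by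
  show IsLocalization.Away.lift (algebraMap R₀ D a₀) (isUnit_awayMap a₀ φ) _ = _
  rw [IsLocalization.Away.lift_eq]
  rfl

theorem awayMap_injective (hφ : Function.Injective φ) : Function.Injective (awayMap a₀ φ) := by
  rw [injective_iff_map_eq_zero]
  intro y hy
  obtain ⟨c, ⟨_, k, rfl⟩, rfl⟩ :=
    IsLocalization.exists_mk'_eq (Submonoid.powers (algebraMap R₀ D a₀)) y
  rw [IsLocalization.mk'_eq_zero_iff]
  have h1 : awayMap a₀ φ (algebraMap D _ c) = 0 := by
    have := IsLocalization.mk'_spec (Localization.Away (algebraMap R₀ D a₀)) c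
      (⟨algebraMap R₀ D a₀ ^ k, ⟨k, rfl⟩⟩ : Submonoid.powers (algebraMap R₀ D a₀))
    rw [← this, map_mul, hy, zero_mul]
  rw [awayMap_algebraMap] at h1
  obtain ⟨⟨_, m, rfl⟩, hm⟩ := (IsLocalization.map_eq_zero_iff
    (Submonoid.powers (algebraMap R₀ D' a₀)) _ _).1 h1
  refine ⟨⟨algebraMap R₀ D a₀ ^ m, m, rfl⟩, ?_⟩
  apply hφ
  rw [map_mul, map_pow, φ.commutes, map_zero]
  exact hm

end AwayMap

section Away2
variable {R₀ : Type u} [CommRing R₀] [IsNoetherianRing R₀] {n b : ℕ} {κ : Type} (L : κ → Fm n b R₀)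

/-- flatness of the model after inverting `a` descends to all large finitely generated
subalgebras. -/
theorem exists_fg_away (a₀ : R₀) (A : Type u) [CommRing A] [Algebra R₀ A]
    (h : Module.Flat (Localization.Away (algebraMap R₀ A a₀))
      (Mm L (Localization.Away (algebraMap R₀ A a₀)))) :
    ∃ C₂ : Subalgebra R₀ A, C₂.FG ∧ ∀ C : Subalgebra R₀ A, C₂ ≤ C →
      Module.Flat (Localization.Away (algebraMap R₀ C a₀))
        (Mm L (Localization.Away (algebraMap R₀ C a₀))) := by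
  classical
  obtain ⟨C', hC', hfl⟩ := exists_fg_flat L (Localization.Away (algebraMap R₀ A a₀)) h
  obtain ⟨T', hT'⟩ := hC'
  have hsurj : ∀ c : Localization.Away (algebraMap R₀ A a₀), ∃ (k : ℕ) (u : A),
      c * algebraMap A _ (algebraMap R₀ A a₀) ^ k = algebraMap A _ u :=
    fun c => IsLocalization.Away.surj (algebraMap R₀ A a₀) c
  choose k u hu using hsurj
  refine ⟨Algebra.adjoin R₀ ((T'.image u : Finset A) : Set A), Subalgebra.fg_adjoin_finset _, ?_⟩
  intro C hC
  have hle : C' ≤ (awayMap a₀ C.val).range := by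
    rw [← hT']
    refine Algebra.adjoin_le ?_
    intro c hc
    have huC : u c ∈ C := hC (Algebra.subset_adjoin (by
      rw [Finset.coe_image]; exact ⟨c, hc, rfl⟩))
    refine ⟨IsLocalization.mk' _ (⟨u c, huC⟩ : C)
      (⟨algebraMap R₀ C a₀ ^ k c, ⟨k c, rfl⟩⟩ : Submonoid.powers (algebraMap R₀ C a₀)), ?_⟩
    have hunit : IsUnit (algebraMap A (Localization.Away (algebraMap R₀ A a₀))
        (algebraMap R₀ A a₀) ^ k c) :=
      (IsLocalization.Away.algebraMap_isUnit (algebraMap R₀ A a₀)).pow _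
    apply hunit.mul_left_injective
    show awayMap a₀ C.val _ * _ = c * _
    rw [hu c]
    have h1 : algebraMap A (Localization.Away (algebraMap R₀ A a₀)) (algebraMap R₀ A a₀) ^ k c =
        awayMap a₀ C.val (algebraMap C _ (algebraMap R₀ C a₀ ^ k c)) := by
      rw [awayMap_algebraMap, ← map_pow]
      rfl
    rw [h1, ← map_mul, IsLocalization.mk'_spec, awayMap_algebraMap]
    rfl
  let ψ : C' →ₐ[R₀] Localization.Away (algebraMap R₀ C a₀) :=
    ((AlgEquiv.ofInjective (awayMap a₀ C.val)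
      (awayMap_injective a₀ C.val Subtype.val_injective)).symm :
      (awayMap a₀ C.val).range →ₐ[R₀] _).comp (Subalgebra.inclusion hle)
  exact flat_of_algHom L ψ hfl

end Away2

section Transport
variable {R₀ : Type u} [CommRing R₀] {n b : ℕ} {κ : Type} (L : κ → Fm n b R₀)
variable {D D' : Type u} [CommRing D] [Algebra R₀ D] [CommRing D'] [Algebra R₀ D']

theorem mapFh_id (v : Fm n b D) : mapFh n b (RingHom.id D) v = v := by
  funext i
  rw [mapFh_apply, MvPolynomial.map_id]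

theorem TV_of_algEquiv (e : D ≃ₐ[R₀] D') (a : D) (h : TV L D (Ideal.span {a})) :
    TV L D' (Ideal.span {e a}) := by
  rw [TV_span_singleton_iff] at h ⊢
  rintro x ⟨hxK, hxF⟩
  have h1 : mapFh n b ((e.symm : D' →ₐ[R₀] D) : D' →+* D) x ∈ Km L D :=
    mapFh_mem_Km L (e.symm : D' →ₐ[R₀] D) x hxK
  have h2 : mapFh n b ((e.symm : D' →ₐ[R₀] D) : D' →+* D) x ∈ aF D a := by
    have := mapFh_mem_aF (n := n) (b := b) ((e.symm : D' →ₐ[R₀] D) : D' →+* D) (e a) x hxF
    simpa using this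
  have h3 := mapFh_mem_aK L (e : D →ₐ[R₀] D') a _ (h ⟨h1, h2⟩)
  rw [mapFh_comp] at h3
  have h4 : ((e : D →ₐ[R₀] D') : D →+* D').comp ((e.symm : D' →ₐ[R₀] D) : D' →+* D) =
      RingHom.id D' := by
    ext y
    simp
  rw [h4, mapFh_id] at h3
  exact h3

/-- `TVa` for the model module gives `TV`. -/
theorem TV_of_TVa (D : Type u) [CommRing D] [Algebra R₀ D] (a : D)
    (h : FlatOpen.TVa D (Mm L D) a) : TV L D (Ideal.span {a}) := by
  rw [TV_span_singleton_iff]
  rintro x ⟨hxK, f, rfl⟩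
  have h0 : a • (piD L D f) = 0 := by
    rw [← map_smul]
    exact (Submodule.Quotient.mk_eq_zero _).2 hxK
  have h1 := h _ h0
  have h2 : FlatOpen.annI a • (⊤ : Submodule D (Mm L D)) =
      (FlatOpen.annI a • (⊤ : Submodule D (Fm n b D))).map (piD L D) := by
    rw [Submodule.map_smul'', Submodule.map_top, LinearMap.range_eq_top.2 (piD_surjective L D)]
  rw [h2] at h1
  obtain ⟨v, hv, hvf⟩ := h1
  have h3 : f - v ∈ Km L D := by
    have : piD L D (f - v) = 0 := by rw [map_sub, hvf, sub_self]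
    exact (Submodule.Quotient.mk_eq_zero _).1 this
  refine ⟨f - v, h3, ?_⟩
  rw [smul_sub, FlatOpen.smul_eq_zero_of_mem_annI_smul hv, sub_zero]

end Transport

section Crit0
variable {R₀ : Type u} [CommRing R₀] [IsNoetherianRing R₀] {n b : ℕ} {κ : Type} (L : κ → Fm n b R₀)

/-- `X ≃ X/⊥` as `R₀`-algebras -/
noncomputable def eBot (X : Type u) [CommRing X] [Algebra R₀ X] :
    X ≃ₐ[R₀] QJ (⊥ : Ideal R₀) X :=
  AlgEquiv.ofBijective (Ideal.Quotient.mkₐ R₀ _) (by
    refine ⟨?_, Ideal.Quotient.mkₐ_surjective R₀ _⟩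
    rw [injective_iff_map_eq_zero]
    intro x hx
    have := Ideal.Quotient.eq_zero_iff_mem.1 hx
    rwa [Ideal.map_bot, Ideal.mem_bot] at this)

theorem crit_step₀ (a₀ : R₀) (A : Type u) [CommRing A] [Algebra R₀ A]
    (c1 : Module.Flat (A ⧸ Ideal.span {algebraMap R₀ A a₀})
      (Mm L (A ⧸ Ideal.span {algebraMap R₀ A a₀})))
    (c2 : TV L A (Ideal.span {algebraMap R₀ A a₀}))
    (c3 : Module.Flat (Localization.Away (algebraMap R₀ A a₀))
      (Mm L (Localization.Away (algebraMap R₀ A a₀)))) :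
    Module.Flat A (Mm L A) := by
  classical
  set J' : Ideal R₀ := ⊥ ⊔ Ideal.span {a₀} with hJ'
  -- flat modulo `a` at a finite stage
  have hle0 : Ideal.span {algebraMap R₀ A a₀} ≤ J'.map (algebraMap R₀ A) := by
    rw [Ideal.span_le, Set.singleton_subset_iff]
    exact Ideal.mem_map_of_mem _ (Ideal.mem_sup_right (Ideal.subset_span (Set.mem_singleton a₀)))
  have hA' : Module.Flat (QJ J' A) (Mm L (QJ J' A)) :=
    flat_of_algHom L (Ideal.Quotient.factorₐ R₀ hle0) c1
  obtain ⟨C₁, hC₁, hfl₁⟩ := phi_all L J' A hA'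
  obtain ⟨C₂, hC₂, haway⟩ := exists_fg_away L a₀ A c3
  have hC₁₂ : (C₁ ⊔ C₂).FG := hC₁.sup hC₂
  have hfl₁₂ : Module.Flat (QJ J' (C₁ ⊔ C₂ : Subalgebra R₀ A)) (Mm L (QJ J' (C₁ ⊔ C₂ : Subalgebra R₀ A))) :=
    flat_of_algHom L (QJmap J' (Subalgebra.inclusion (le_sup_left : C₁ ≤ C₁ ⊔ C₂))) hfl₁
  have hTV : TV L (QJ (⊥ : Ideal R₀) A)
      (Ideal.span {algebraMap R₀ (QJ (⊥ : Ideal R₀) A) a₀}) := by
    have := TV_of_algEquiv L (eBot (R₀ := R₀) A) _ c2
    rwa [AlgEquiv.commutes] at this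
  have H1 := flat_quot_tensor L ⊥ a₀ (C₁ ⊔ C₂ : Subalgebra R₀ A) hfl₁₂
  obtain ⟨C, hC, hle, hTVC⟩ := exists_TV ⊥ a₀ L hTV (C₁ ⊔ C₂) hC₁₂ H1
  have hflC' : Module.Flat (QJ J' C) (Mm L (QJ J' C)) :=
    flat_of_algHom L (QJmap J' (Subalgebra.inclusion hle)) hfl₁₂
  have H1C := flat_quot_tensor L ⊥ a₀ C hflC'
  haveI := isNoetherianRing_QJ_of_fg (⊥ : Ideal R₀) C hC
  have hsel : Module.Flat (QJ (⊥ : Ideal R₀) C)
      (LocalizedModule (Submonoid.powers (algebraMap R₀ (QJ (⊥ : Ideal R₀) C) a₀))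
        (Mm L (QJ (⊥ : Ideal R₀) C))) :=
    flat_localizedModule_of_flat_away L (QJ (⊥ : Ideal R₀) C) _
      (flat_of_algHom L (awayMap a₀ (eBot (R₀ := R₀) C).toAlgHom)
        (haway C (le_sup_right.trans hle)))
  have hflat : Module.Flat (QJ (⊥ : Ideal R₀) C) (Mm L (QJ (⊥ : Ideal R₀) C)) :=
    flat_of_criterion_away (MvPolynomial (Fin n) (QJ (⊥ : Ideal R₀) C))
      (Mm L (QJ (⊥ : Ideal R₀) C)) (algebraMap R₀ (QJ (⊥ : Ideal R₀) C) a₀) H1C
      (rTensor_injective_of_TV L (QJ (⊥ : Ideal R₀) C) _ hTVC) hsel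
  exact flat_of_algHom L (C.val.comp (eBot (R₀ := R₀) C).symm.toAlgHom) hflat

end Crit0
end Groth.Agent.Lib.Helper14.FlatStage
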