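/-
Helper14 library (FlatOpen): semilinear model of a finitely presented module over a finitely
presented algebra, with coefficient ring containing prescribed elements.
-/
import Groth.Agent.Lib.Helper14.FlatStage.Interface

set_option autoImplicit false
universe u
open TensorProduct
attribute [local instance] MvPolynomial.algebraMvPolynomial

namespace Groth.Agent.Lib.Helper14.FlatStage

theorem exists_coeff_ring' (A₀ : Type u) [CommRing A₀] {n b : ℕ} {κ : Type} [Fintype κ]
    (ℓ : κ → Fm n b A₀) (F : Finset A₀) :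
    ∃ R₀ : Subalgebra ℤ A₀, R₀.FG ∧ (∀ x ∈ F, x ∈ R₀) ∧ ∃ L : κ → Fm n b R₀,
      ∀ j, mapF n b R₀ A₀ (L j) = ℓ j := by
  classical
  let S : Finset A₀ := F ∪ Finset.univ.biUnion (fun j : κ =>
    Finset.univ.biUnion (fun i : Fin b => (ℓ j i).coeffs))
  refine ⟨Algebra.adjoin ℤ (S : Set A₀), Subalgebra.fg_adjoin_finset S, ?_, ?_⟩
  · intro x hx
    exact Algebra.subset_adjoin (Finset.mem_coe.2 (Finset.mem_union_left _ hx))
  have h : ∀ j i, ∃ p : MvPolynomial (Fin n) (Algebra.adjoin ℤ (S : Set A₀)),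
      MvPolynomial.map (algebraMap (Algebra.adjoin ℤ (S : Set A₀)) A₀) p = ℓ j i := by
    intro j i
    apply MvPolynomial.mem_range_map_iff_coeffs_subset.2
    intro c hc
    have hcS : c ∈ S := by
      refine Finset.mem_union_right _ ?_
      simp only [Finset.mem_biUnion, Finset.mem_univ, true_and]
      exact ⟨j, i, hc⟩
    exact ⟨⟨c, Algebra.subset_adjoin hcS⟩, rfl⟩
  choose L hL using h
  exact ⟨L, fun j => funext (fun i => hL j i)⟩

theorem exists_presentation' (A₀ B₀ M₀ : Type u) [CommRing A₀] [CommRing B₀] [Algebra A₀ B₀]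
    [Algebra.FinitePresentation A₀ B₀] [AddCommGroup M₀] [Module B₀ M₀] [Module A₀ M₀]
    [IsScalarTower A₀ B₀ M₀] [Module.FinitePresentation B₀ M₀] :
    ∃ (n b e : ℕ) (ℓ : Fin e → Fm n b A₀) (π : MvPolynomial (Fin n) A₀ →ₐ[A₀] B₀)
      (iso : M₀ ≃ₗ[A₀] (Fm n b A₀ ⧸ Submodule.span (MvPolynomial (Fin n) A₀) (Set.range ℓ))),
      Function.Surjective π ∧ ∀ p x, iso (π p • x) = p • iso x := by
  obtain ⟨n, π, hπ, hker⟩ := Algebra.FinitePresentation.out (R := A₀) (A := B₀)
  letI : Algebra (MvPolynomial (Fin n) A₀) B₀ := π.toRingHom.toAlgebra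
  letI : Module (MvPolynomial (Fin n) A₀) M₀ := Module.compHom M₀ π.toRingHom
  haveI : IsScalarTower (MvPolynomial (Fin n) A₀) B₀ M₀ :=
    ⟨fun p c m => by
      show (π p * c) • m = π p • (c • m)
      exact mul_smul _ _ _⟩
  haveI : IsScalarTower A₀ (MvPolynomial (Fin n) A₀) M₀ :=
    ⟨fun a p m => by
      show π (a • p) • m = a • (π p • m)
      rw [map_smul, smul_assoc]⟩
  haveI : Module.FinitePresentation (MvPolynomial (Fin n) A₀) B₀ := by
    refine Module.finitePresentation_of_surjective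
      (Algebra.linearMap (MvPolynomial (Fin n) A₀) B₀) hπ ?_
    exact hker
  haveI : Module.FinitePresentation (MvPolynomial (Fin n) A₀) M₀ :=
    Module.FinitePresentation.trans (MvPolynomial (Fin n) A₀) M₀ B₀
  obtain ⟨b, K, eK, hK⟩ := Module.FinitePresentation.exists_fin (MvPolynomial (Fin n) A₀) M₀
  obtain ⟨e, ℓ, hℓ⟩ := Submodule.fg_iff_exists_fin_generating_family.1 hK
  subst hℓ
  refine ⟨n, b, e, ℓ, π, eK.restrictScalars A₀, hπ, ?_⟩
  intro p x
  exact eK.map_smul p x

/-- a finitely presented module over a finitely presented algebra is a model module, semilinearly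
over a presentation of the algebra, with coefficients in a finitely generated subring containing a
prescribed finite set. -/
theorem exists_model' (A₀ B₀ M₀ : Type u) [CommRing A₀] [CommRing B₀] [Algebra A₀ B₀]
    [Algebra.FinitePresentation A₀ B₀] [AddCommGroup M₀] [Module B₀ M₀] [Module A₀ M₀]
    [IsScalarTower A₀ B₀ M₀] [Module.FinitePresentation B₀ M₀] (F : Finset A₀) :
    ∃ (n b e : ℕ) (R₀ : Subalgebra ℤ A₀) (_ : R₀.FG) (L : Fin e → Fm n b R₀)
      (π : MvPolynomial (Fin n) A₀ →ₐ[A₀] B₀) (iso : M₀ ≃ₗ[A₀] Mm L A₀),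
      (∀ x ∈ F, x ∈ R₀) ∧ Function.Surjective π ∧ ∀ p x, iso (π p • x) = p • iso x := by
  obtain ⟨n, b, e, ℓ, π, iso, hπ, hsl⟩ := exists_presentation' A₀ B₀ M₀
  obtain ⟨R₀, hR₀, hF, L, hL⟩ := exists_coeff_ring' A₀ ℓ F
  have hK : Submodule.span (MvPolynomial (Fin n) A₀) (Set.range ℓ) = Km L A₀ := by
    unfold Km
    congr 2
    funext j
    exact (hL j).symm
  refine ⟨n, b, e, R₀, hR₀, L, π,
    iso ≪≫ₗ (Submodule.quotEquivOfEq _ _ hK).restrictScalars A₀, hF, hπ, ?_⟩
  intro p x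
  show (Submodule.quotEquivOfEq _ _ hK) (iso (π p • x)) = p • (Submodule.quotEquivOfEq _ _ hK) (iso x)
  rw [hsl, map_smul]

end Groth.Agent.Lib.Helper14.FlatStage
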