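/-
Helper14 library (FlatOpen): the flatness criterion `flat_of_fp_criterion` for finitely presented
modules over finitely presented algebras (no Noetherian hypothesis).
-/
import Groth.Agent.Lib.Helper14.FlatOpen.Engine0
import Groth.Agent.Lib.Helper14.FlatOpen.Model2
set_option autoImplicit false
universe u
open TensorProduct
attribute [local instance] MvPolynomial.algebraMvPolynomial
namespace Groth.Agent.Lib.Helper14.FlatOpen
open Groth.Agent.Lib.Helper14.FlatStage

section ModelFacts
variable {R₀ : Type u} [CommRing R₀] {n b : ℕ} {κ : Type} (L : κ → Fm n b R₀)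
variable {A : Type u} [CommRing A] [Algebra R₀ A]
  {N : Type u} [AddCommGroup N] [Module A N]

/-- flatness of `(A/a) ⊗ N` in model form -/
theorem flat_model_quot_of_flat_tensor (iso : N ≃ₗ[A] Mm L A) (I : Ideal A)
    (H1 : Module.Flat (A ⧸ I) ((A ⧸ I) ⊗[A] N)) : Module.Flat (A ⧸ I) (Mm L (A ⧸ I)) := by
  have e1 : (A ⧸ I) ⊗[A] N ≃ₗ[A ⧸ I] (A ⧸ I) ⊗[A] Mm L A :=
    TensorProduct.AlgebraTensorModule.congr (LinearEquiv.refl (A ⧸ I) (A ⧸ I)) iso
  exact Module.Flat.of_linearEquiv (e1 ≪≫ₗ (isBaseChange_mapM L A (A ⧸ I)).equiv).symm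

theorem flat_tensor_of_flat_model_quot (iso : N ≃ₗ[A] Mm L A) (I : Ideal A)
    (H1 : Module.Flat (A ⧸ I) (Mm L (A ⧸ I))) : Module.Flat (A ⧸ I) ((A ⧸ I) ⊗[A] N) := by
  have e1 : (A ⧸ I) ⊗[A] N ≃ₗ[A ⧸ I] (A ⧸ I) ⊗[A] Mm L A :=
    TensorProduct.AlgebraTensorModule.congr (LinearEquiv.refl (A ⧸ I) (A ⧸ I)) iso
  exact Module.Flat.of_linearEquiv (e1 ≪≫ₗ (isBaseChange_mapM L A (A ⧸ I)).equiv)

/-- flatness of the `A`-localization `N_a` in model form -/
theorem flat_model_away_of_flat_localized (iso : N ≃ₗ[A] Mm L A) (a : A)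
    (H3 : Module.Flat A (LocalizedModule (Submonoid.powers a) N)) :
    Module.Flat (Localization.Away a) (Mm L (Localization.Away a)) := by
  have hbc := isBaseChange_mapM L A (Localization.Away a)
  have hloc : IsLocalizedModule (Submonoid.powers a)
      ((mapM L A (Localization.Away a)).restrictScalars A) :=
    (isLocalizedModule_iff_isBaseChange (Submonoid.powers a) (Localization.Away a) _).2 hbc
  haveI : IsLocalizedModule (Submonoid.powers a)
      (((mapM L A (Localization.Away a)).restrictScalars A).comp iso.toLinearMap) :=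
    IsLocalizedModule.of_linearEquiv_right (Submonoid.powers a) _ iso
  have e := IsLocalizedModule.linearEquiv (Submonoid.powers a)
    (LocalizedModule.mkLinearMap (Submonoid.powers a) N)
    (((mapM L A (Localization.Away a)).restrictScalars A).comp iso.toLinearMap)
  haveI : Module.Flat A (Mm L (Localization.Away a)) := Module.Flat.of_linearEquiv e.symm
  exact (Module.flat_iff_of_isLocalization (Localization.Away a) (Submonoid.powers a) _).2
    inferInstance

end ModelFacts

/-- **criterion for finitely presented modules** (no Noetherian hypothesis): flat modulo `a`,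
Tor-vanishing for `(a)` and flat after inverting `a` imply flat. -/
theorem flat_of_fp_criterion {A S N : Type u} [CommRing A] [CommRing S] [Algebra A S]
    [Algebra.FinitePresentation A S] [AddCommGroup N] [Module S N] [Module A N]
    [IsScalarTower A S N] [Module.FinitePresentation S N] (a : A)
    (H1 : Module.Flat (A ⧸ Ideal.span {a}) ((A ⧸ Ideal.span {a}) ⊗[A] N))
    (H2 : TVa A N a)
    (H3 : Module.Flat A (LocalizedModule (Submonoid.powers a) N)) : Module.Flat A N := by
  classical
  obtain ⟨n, b, e, R₀, hR₀, L, π, iso, hF, -, -⟩ := exists_model' A S N {a}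
  haveI : Algebra.FiniteType ℤ R₀ := (Subalgebra.fg_iff_finiteType R₀).1 hR₀
  haveI : IsNoetherianRing R₀ := Algebra.FiniteType.isNoetherianRing ℤ R₀
  let a₀ : R₀ := ⟨a, hF a (Finset.mem_singleton_self a)⟩
  have ha₀ : algebraMap R₀ A a₀ = a := rfl
  have c1 := flat_model_quot_of_flat_tensor L iso (Ideal.span {a}) H1
  have c2 : TV L A (Ideal.span {a}) := TV_of_TVa L A a (TVa_of_linearEquiv iso a H2)
  have c3 := flat_model_away_of_flat_localized L iso a H3
  have := crit_step₀ L a₀ A c1 c2 c3
  exact Module.Flat.of_linearEquiv iso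

end Groth.Agent.Lib.Helper14.FlatOpen
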