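/-
Helper14 library (FlatOpen): finite generation of `Tor₁(A/a, N)` when `N/aN` is flat, and
Tor-vanishing on a basic open neighbourhood of a prime at which `N` is flat (`exists_away_TVa`).
-/
import Groth.Agent.Lib.Helper14.FlatOpen.Crit
set_option autoImplicit false
universe u
open TensorProduct
attribute [local instance] MvPolynomial.algebraMvPolynomial
namespace Groth.Agent.Lib.Helper14.FlatStage
open FlatOpen

section TorGen
variable {R₀ : Type u} [CommRing R₀] {n b : ℕ} {κ : Type} (L : κ → Fm n b R₀)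
variable (D D' : Type u) [CommRing D] [Algebra R₀ D] [CommRing D'] [Algebra R₀ D'] [Algebra D D']
  [IsScalarTower R₀ D D']

/-- generation of `K' ∩ a F'` by the image of `K ∩ a F`, when the model is flat modulo `a`
over `D`. -/
theorem tor_gen (a : R₀)
    (H1 : Module.Flat (D ⧸ Ideal.span {algebraMap R₀ D a})
      ((D ⧸ Ideal.span {algebraMap R₀ D a}) ⊗[D] Mm L D))
    (z : Fm n b D') (hz : z ∈ Km L D' ⊓ aF D' (algebraMap R₀ D' a)) :
    z ∈ Submodule.span (MvPolynomial (Fin n) D')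
        ((mapF n b D D') '' ((Km L D ⊓ aF D (algebraMap R₀ D a) : Submodule _ _) : Set (Fm n b D))) ⊔
      aK L D' (algebraMap R₀ D' a) := by
  obtain ⟨hzK, hzF⟩ := hz
  obtain ⟨w, hw⟩ := exists_tensor_of_mem_Km L D D' z hzK
  have H1' : Module.Flat (D ⧸ Ideal.span {algebraMap R₀ D a})
      ((D ⧸ Ideal.span {algebraMap R₀ D a}) ⊗[D] (Fm n b D ⧸ KmD L D)) :=
    Module.Flat.of_linearEquiv (TensorProduct.AlgebraTensorModule.congr
      (LinearEquiv.refl (D ⧸ Ideal.span {algebraMap R₀ D a}) (D ⧸ Ideal.span {algebraMap R₀ D a}))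
      (Submodule.Quotient.restrictScalarsEquiv D (Km L D)))
  have hmap : (Ideal.span {algebraMap R₀ D a}).map (algebraMap D D') =
      Ideal.span {algebraMap R₀ D' a} := by
    rw [Ideal.map_span, Set.image_singleton, ← IsScalarTower.algebraMap_apply]
  have key := tor_surj (Ideal.span {algebraMap R₀ D a}) (KmD L D)
    ((mapF n b D D').restrictScalars D) (isBaseChange_mapF (n := n) (b := b)) H1' w (by
      rw [hw, hmap]
      exact (mem_aF_iff _ z).1 hzF)
  rw [hw, hmap] at key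
  have hle : Submodule.span D' (((mapF n b D D').restrictScalars D) ''
        ((KmD L D ⊓ Ideal.span {algebraMap R₀ D a} • ⊤ : Submodule D (Fm n b D)) : Set (Fm n b D))) ⊔
      Ideal.span {algebraMap R₀ D' a} •
        Submodule.span D' (((mapF n b D D').restrictScalars D) '' (KmD L D : Set (Fm n b D))) ≤
      (Submodule.span (MvPolynomial (Fin n) D')
        ((mapF n b D D') '' ((Km L D ⊓ aF D (algebraMap R₀ D a) : Submodule _ _) : Set (Fm n b D))) ⊔
      aK L D' (algebraMap R₀ D' a)).restrictScalars D' := by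
    refine sup_le (Submodule.span_le.2 ?_) (Submodule.smul_le.2 ?_)
    · rintro _ ⟨x, ⟨hxK, hxI⟩, rfl⟩
      exact Submodule.mem_sup_left (Submodule.subset_span ⟨x, ⟨hxK, (mem_aF_iff _ x).2 hxI⟩, rfl⟩)
    · intro r hr y hy
      obtain ⟨c, rfl⟩ := Ideal.mem_span_singleton'.1 hr
      have hyK : y ∈ KmD L D' := by
        refine (Submodule.span_le.2 ?_) hy
        rintro _ ⟨x, hx, rfl⟩
        exact mapF_mem_Km L D D' x hx
      refine Submodule.mem_sup_right ⟨c • y, (KmD L D').smul_mem c hyK, ?_⟩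
      rw [mul_comm, mul_smul]
  exact hle key

end TorGen

section M1
variable {R₀ : Type u} [CommRing R₀] [IsNoetherianRing R₀] {n b : ℕ} {κ : Type} (L : κ → Fm n b R₀)

theorem exists_finset_gen (a₀ : R₀) (A : Type u) [CommRing A] [Algebra R₀ A]
    (c1 : Module.Flat (A ⧸ Ideal.span {algebraMap R₀ A a₀})
      (Mm L (A ⧸ Ideal.span {algebraMap R₀ A a₀}))) :
    ∃ T : Finset (Fm n b A), (∀ t ∈ T, t ∈ Km L A ⊓ aF A (algebraMap R₀ A a₀)) ∧
      ∀ z ∈ Km L A ⊓ aF A (algebraMap R₀ A a₀),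
        z ∈ Submodule.span (MvPolynomial (Fin n) A) (T : Set (Fm n b A)) ⊔
          aK L A (algebraMap R₀ A a₀) := by
  classical
  set J' : Ideal R₀ := ⊥ ⊔ Ideal.span {a₀} with hJ'
  have hle0 : Ideal.span {algebraMap R₀ A a₀} ≤ J'.map (algebraMap R₀ A) := by
    rw [Ideal.span_le, Set.singleton_subset_iff]
    exact Ideal.mem_map_of_mem _ (Ideal.mem_sup_right (Ideal.subset_span (Set.mem_singleton a₀)))
  have hA' : Module.Flat (QJ J' A) (Mm L (QJ J' A)) :=
    flat_of_algHom L (Ideal.Quotient.factorₐ R₀ hle0) c1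
  obtain ⟨C₁, hC₁, hfl₁⟩ := phi_all L J' A hA'
  -- flatness modulo `a` over `C₁`
  have hle1 : J'.map (algebraMap R₀ C₁) ≤ Ideal.span {algebraMap R₀ C₁ a₀} := by
    rw [hJ', Ideal.map_sup, Ideal.map_bot, bot_sup_eq, Ideal.map_span, Set.image_singleton]
  have hfl₁' : Module.Flat (C₁ ⧸ Ideal.span {algebraMap R₀ C₁ a₀})
      (Mm L (C₁ ⧸ Ideal.span {algebraMap R₀ C₁ a₀})) :=
    flat_of_algHom L (Ideal.Quotient.factorₐ R₀ hle1) hfl₁
  have H1 : Module.Flat (C₁ ⧸ Ideal.span {algebraMap R₀ C₁ a₀})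
      ((C₁ ⧸ Ideal.span {algebraMap R₀ C₁ a₀}) ⊗[C₁] Mm L C₁) :=
    FlatOpen.flat_tensor_of_flat_model_quot L (LinearEquiv.refl C₁ (Mm L C₁)) _ hfl₁'
  haveI : Algebra.FiniteType R₀ C₁ := (Subalgebra.fg_iff_finiteType C₁).1 hC₁
  haveI : IsNoetherianRing C₁ := Algebra.FiniteType.isNoetherianRing R₀ C₁
  haveI : IsNoetherian (MvPolynomial (Fin n) C₁) (Fm n b C₁) := inferInstance
  obtain ⟨T₁, hT₁⟩ := IsNoetherian.noetherian
    (Km L C₁ ⊓ aF C₁ (algebraMap R₀ C₁ a₀))
  have hmem : ∀ x ∈ Km L C₁ ⊓ aF C₁ (algebraMap R₀ C₁ a₀),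
      mapF n b C₁ A x ∈ Km L A ⊓ aF A (algebraMap R₀ A a₀) := by
    rintro x ⟨hxK, hxF⟩
    refine ⟨mapF_mem_Km L C₁ A x hxK, ?_⟩
    have := mapFh_mem_aF (n := n) (b := b) (algebraMap C₁ A) _ x hxF
    rwa [← IsScalarTower.algebraMap_apply] at this
  refine ⟨T₁.image (mapF n b C₁ A), ?_, ?_⟩
  · intro t ht
    obtain ⟨x, hx, rfl⟩ := Finset.mem_image.1 ht
    exact hmem x (by rw [← hT₁]; exact Submodule.subset_span hx)
  · intro z hz
    have h1 := tor_gen L C₁ A a₀ H1 z hz
    have hspan : Submodule.span (MvPolynomial (Fin n) A)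
        ((mapF n b C₁ A) '' ((Km L C₁ ⊓ aF C₁ (algebraMap R₀ C₁ a₀) : Submodule _ _) :
          Set (Fm n b C₁))) ≤
        Submodule.span (MvPolynomial (Fin n) A)
          ((T₁.image (mapF n b C₁ A) : Finset (Fm n b A)) : Set (Fm n b A)) := by
      refine Submodule.span_le.2 ?_
      rintro _ ⟨x, hx, rfl⟩
      rw [SetLike.mem_coe, ← hT₁] at hx
      rw [SetLike.mem_coe]
      induction hx using Submodule.span_induction with
      | mem x hx =>
        exact Submodule.subset_span (Finset.mem_coe.2 (Finset.mem_image_of_mem _ hx))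
      | zero => rw [map_zero]; exact zero_mem _
      | add x y _ _ hx hy => rw [map_add]; exact add_mem hx hy
      | smul p x _ hx =>
        rw [map_smul, algebra_compatible_smul (MvPolynomial (Fin n) A)]
        exact Submodule.smul_mem _ _ hx
    exact (sup_le_sup_right hspan _) h1

end M1

section M2
variable {R₀ : Type u} [CommRing R₀] {n b : ℕ} {κ : Type} (L : κ → Fm n b R₀)
variable (A : Type u) [CommRing A] [Algebra R₀ A]

theorem mkQ_mem_annI_smul_top (a : A) {v : Fm n b A}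
    (hv : v ∈ annI a • (⊤ : Submodule A (Fm n b A))) :
    (Km L A).mkQ v ∈ annI a • (⊤ : Submodule A (Mm L A)) := by
  have : (Km L A).mkQ v ∈ (annI a • (⊤ : Submodule A (Fm n b A))).map (piD L A) := ⟨v, hv, rfl⟩
  rw [Submodule.map_smul''] at this
  exact Submodule.smul_mono le_rfl le_top this

theorem smul_mkQ_mem_of_gen (a : A) (T : Finset (Fm n b A))
    (hgen : ∀ z ∈ Km L A ⊓ aF A a,
      z ∈ Submodule.span (MvPolynomial (Fin n) A) (T : Set (Fm n b A)) ⊔ aK L A a)
    (s : MvPolynomial (Fin n) A)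
    (hs : ∀ t ∈ T, ∃ f : Fm n b A, t = a • f ∧
      s • (Km L A).mkQ f ∈ annI a • (⊤ : Submodule A (Mm L A)))
    (f : Fm n b A) (hf : a • f ∈ Km L A) :
    s • (Km L A).mkQ f ∈ annI a • (⊤ : Submodule A (Mm L A)) := by
  have h1 := hgen (a • f) ⟨hf, f, rfl⟩
  obtain ⟨w, hw, y, hy, hwy⟩ := Submodule.mem_sup.1 h1
  obtain ⟨k, hk, rfl⟩ := hy
  -- elements of the span
  have hspan : ∀ w ∈ Submodule.span (MvPolynomial (Fin n) A) (T : Set (Fm n b A)),
      ∃ f' : Fm n b A, w = a • f' ∧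
        s • (Km L A).mkQ f' ∈ annI a • (⊤ : Submodule A (Mm L A)) := by
    intro w hw
    induction hw using Submodule.span_induction with
    | mem x hx => exact hs x hx
    | zero => exact ⟨0, (smul_zero _).symm, by rw [map_zero, smul_zero]; exact zero_mem _⟩
    | add x y _ _ hx hy =>
      obtain ⟨f₁, rfl, h₁⟩ := hx
      obtain ⟨f₂, rfl, h₂⟩ := hy
      exact ⟨f₁ + f₂, (smul_add _ _ _).symm, by rw [map_add, smul_add]; exact add_mem h₁ h₂⟩
    | smul p x _ hx =>
      obtain ⟨f₁, rfl, h₁⟩ := hx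
      refine ⟨p • f₁, smul_comm _ _ _, ?_⟩
      rw [map_smul, smul_comm]
      exact smul_mem_ideal_smul_top (annI a) p h₁
  obtain ⟨f', rfl, hf'⟩ := hspan w hw
  -- `a (f - f' - k) = 0`
  have h0 : a • (f - f' - k) = 0 := by
    rw [smul_sub, smul_sub, ← hwy]
    abel
  have h2 : f - f' - k ∈ annI a • (⊤ : Submodule A (Fm n b A)) := TVa_of_flat a _ h0
  have h3 := mkQ_mem_annI_smul_top L A a h2
  rw [map_sub, map_sub, (Submodule.mkQ_apply _ k), (Submodule.Quotient.mk_eq_zero _).2 hk,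
    sub_zero] at h3
  have h4 := add_mem (smul_mem_ideal_smul_top (annI a) s h3) hf'
  rwa [smul_sub, sub_add_cancel] at h4

end M2

end Groth.Agent.Lib.Helper14.FlatStage

namespace Groth.Agent.Lib.Helper14.FlatOpen
open Groth.Agent.Lib.Helper14.FlatStage

/-- **finite generation of Tor and selection of a neighbourhood**: if `N/aN` is flat over `A/a`
and `N_q` is flat over `A`, then Tor-vanishing for `(a)` holds on a basic open neighbourhood
of `q`. -/
theorem exists_away_TVa {A S N : Type u} [CommRing A] [CommRing S] [Algebra A S]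
    [Algebra.FinitePresentation A S] [AddCommGroup N] [Module S N] [Module A N]
    [IsScalarTower A S N] [Module.FinitePresentation S N] (a : A)
    (H1 : Module.Flat (A ⧸ Ideal.span {a}) ((A ⧸ Ideal.span {a}) ⊗[A] N))
    (q : Ideal S) [q.IsPrime] (hq : Module.Flat A (LocalizedModule q.primeCompl N)) :
    ∃ h : S, h ∉ q ∧ TVa A (LocalizedModule (Submonoid.powers h) N) a := by
  classical
  obtain ⟨n, b, e, R₀, hR₀, L, π, iso, hF, hπ, hsl⟩ := exists_model' A S N {a}
  haveI : Algebra.FiniteType ℤ R₀ := (Subalgebra.fg_iff_finiteType R₀).1 hR₀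
  haveI : IsNoetherianRing R₀ := Algebra.FiniteType.isNoetherianRing ℤ R₀
  let a₀ : R₀ := ⟨a, hF a (Finset.mem_singleton_self a)⟩
  have ha₀ : algebraMap R₀ A a₀ = a := rfl
  have c1 := flat_model_quot_of_flat_tensor L iso (Ideal.span {a}) H1
  obtain ⟨T, hT, hgen⟩ := exists_finset_gen L a₀ A c1
  rw [ha₀] at hT hgen
  -- selection
  have hsel : ∀ t ∈ T, ∃ s : MvPolynomial (Fin n) A, π s ∉ q ∧ ∃ f : Fm n b A, t = a • f ∧
      s • (Km L A).mkQ f ∈ annI a • (⊤ : Submodule A (Mm L A)) := by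
    intro t ht
    obtain ⟨htK, f, rfl⟩ := hT t ht
    set y : N := iso.symm ((Km L A).mkQ f) with hy
    have hy0 : a • y = 0 := by
      have h0 : a • (Km L A).mkQ f = 0 := by
        have := (piD L A).map_smul a f
        rw [show (Km L A).mkQ f = piD L A f from rfl, ← this]
        exact (Submodule.Quotient.mk_eq_zero _).2 htK
      rw [hy, ← map_smul, h0, map_zero]
    have h1 : a • (LocalizedModule.mkLinearMap q.primeCompl N y) = 0 := by
      rw [← LinearMap.map_smul_of_tower, hy0, map_zero]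
    have h2 := TVa_of_flat a _ h1
    obtain ⟨u, hu, hux⟩ := exists_smul_mem_of_map_mem q.primeCompl
      (LocalizedModule.mkLinearMap q.primeCompl N) (annI a) y h2
    obtain ⟨s, rfl⟩ := hπ u
    refine ⟨s, hu, f, rfl, ?_⟩
    have h3 := mem_smul_top_of_linearMap iso.toLinearMap (annI a) hux
    rw [LinearEquiv.coe_coe, hsl, hy, LinearEquiv.apply_symm_apply] at h3
    exact h3
  choose! s hs1 hs2 using hsel
  set sT : MvPolynomial (Fin n) A := ∏ t ∈ T, s t with hsT
  have hnot : π sT ∉ q := by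
    rw [hsT, map_prod]
    intro hmem
    obtain ⟨t, ht, htq⟩ := Ideal.IsPrime.prod_mem_iff.1 hmem
    exact hs1 t ht htq
  have hsT' : ∀ t ∈ T, ∃ f : Fm n b A, t = a • f ∧
      sT • (Km L A).mkQ f ∈ annI a • (⊤ : Submodule A (Mm L A)) := by
    intro t ht
    obtain ⟨f, hf, hmem⟩ := hs2 t ht
    refine ⟨f, hf, ?_⟩
    rw [hsT, ← Finset.mul_prod_erase T s ht, mul_comm, mul_smul]
    exact smul_mem_ideal_smul_top (annI a) _ hmem
  have KC := smul_mkQ_mem_of_gen L A a T hgen sT hsT'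
  refine ⟨π sT, hnot, ?_⟩
  set h := π sT with hh
  intro y hy
  obtain ⟨⟨x, ⟨_, k, rfl⟩⟩, hx⟩ := IsLocalizedModule.surj (Submonoid.powers h)
    (LocalizedModule.mkLinearMap (Submonoid.powers h) N) y
  have hx' : h ^ k • y = LocalizedModule.mkLinearMap (Submonoid.powers h) N x := hx
  have h1 : LocalizedModule.mkLinearMap (Submonoid.powers h) N (a • x) = 0 := by
    rw [LinearMap.map_smul_of_tower, ← hx', smul_comm, hy, smul_zero]
  obtain ⟨⟨_, m, rfl⟩, hm⟩ := (IsLocalizedModule.eq_zero_iff (Submonoid.powers h)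
    (LocalizedModule.mkLinearMap (Submonoid.powers h) N)).1 h1
  have hm' : h ^ m • (a • x) = 0 := hm
  have hx0 : a • (h ^ m • x) = 0 := by rw [smul_comm, hm']
  obtain ⟨f, hf⟩ := Submodule.mkQ_surjective (Km L A) (iso (h ^ m • x))
  have hfK : a • f ∈ Km L A := by
    have h0 : piD L A (a • f) = 0 := by
      rw [map_smul, show piD L A f = (Km L A).mkQ f from rfl, hf, ← map_smul, hx0, map_zero]
    exact (Submodule.Quotient.mk_eq_zero _).1 h0
  have h2 := KC f hfK
  rw [hf, ← hsl] at h2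
  have h3 := mem_smul_top_of_linearMap iso.symm.toLinearMap (annI a) h2
  rw [LinearEquiv.coe_coe, LinearEquiv.symm_apply_apply, ← hh] at h3
  have h4 := mem_smul_top_of_linearMap
    ((LocalizedModule.mkLinearMap (Submonoid.powers h) N).restrictScalars A) (annI a) h3
  rw [LinearMap.restrictScalars_apply] at h4
  -- `u • y = mk (h • h^m • x)` with `u = h^(m+1+k)`
  have hu : h * h ^ m * h ^ k ∈ Submonoid.powers h := ⟨1 + m + k, by ring⟩
  have h5 : (h * h ^ m * h ^ k) • y =
      LocalizedModule.mkLinearMap (Submonoid.powers h) N (h • h ^ m • x) := by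
    rw [mul_smul, hx', mul_smul, ← map_smul, ← map_smul]
  have h6 : y = (IsLocalization.mk' (Localization.Away h) (1 : S)
      (⟨h * h ^ m * h ^ k, hu⟩ : Submonoid.powers h)) • ((h * h ^ m * h ^ k) • y) := by
    rw [← algebraMap_smul (Localization.Away h) (h * h ^ m * h ^ k) y, ← mul_smul]
    have := IsLocalization.mk'_spec (Localization.Away h) (1 : S)
      (⟨h * h ^ m * h ^ k, hu⟩ : Submonoid.powers h)
    rw [this, map_one, one_smul]
  rw [h6, h5]
  exact smul_mem_ideal_smul_top (annI a) _ h4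

end Groth.Agent.Lib.Helper14.FlatOpen
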