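/-
Helper14 library (FlatOpen): reduction of the localized model module modulo an ideal of the base.
-/
import Groth.Agent.Lib.Helper14.FlatOpen.BaseChange
import Groth.Agent.Lib.Helper14.FlatOpen.TorFin
set_option autoImplicit false
universe u
open TensorProduct
attribute [local instance] MvPolynomial.algebraMvPolynomial
namespace Groth.Agent.Lib.Helper14.FlatStage
open FlatOpen

section T5
variable {R₀ : Type u} [CommRing R₀] {n b : ℕ} {κ : Type} (L : κ → Fm n b R₀)
variable (D : Type u) [CommRing D] [Algebra R₀ D] (I : Ideal D)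

theorem mapM_quot_surjective : Function.Surjective (mapM L D (D ⧸ I)) :=
  surjective_of_isBaseChange_quot I ((mapM L D (D ⧸ I)).restrictScalars D)
    (isBaseChange_mapM L D (D ⧸ I))

theorem mapM_quot_ker (m : Mm L D) (hm : mapM L D (D ⧸ I) m = 0) :
    m ∈ I • (⊤ : Submodule D (Mm L D)) :=
  ker_le_of_isBaseChange_quot I ((mapM L D (D ⧸ I)).restrictScalars D)
    (isBaseChange_mapM L D (D ⧸ I)) m hm

/-- localization of the model commutes with reduction modulo `I`. -/
theorem isBaseChange_locMap (T : Submonoid (MvPolynomial (Fin n) D)) :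
    IsBaseChange (D ⧸ I) ((locMap (P' := MvPolynomial (Fin n) (D ⧸ I)) T
      (mapM L D (D ⧸ I))).restrictScalars D) :=
  isBaseChange_quot_of_surjective I _
    (locMap_surjective T _ (mapM_quot_surjective L D I))
    (fun x hx => locMap_ker T _ I (mapM_quot_ker L D I) x hx)


/-- (T5a) flatness at a prime passes to the reduction modulo `I`. -/
theorem flat_quot_localized_prime (Q : Ideal (MvPolynomial (Fin n) D)) [Q.IsPrime]
    (hker : RingHom.ker (algebraMap (MvPolynomial (Fin n) D) (MvPolynomial (Fin n) (D ⧸ I))) ≤ Q)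
    (Q' : Ideal (MvPolynomial (Fin n) (D ⧸ I))) [Q'.IsPrime]
    (hQ' : Q' = Q.map (algebraMap (MvPolynomial (Fin n) D) (MvPolynomial (Fin n) (D ⧸ I))))
    (h : Module.Flat D (LocalizedModule Q.primeCompl (Mm L D))) :
    Module.Flat (D ⧸ I) (LocalizedModule Q'.primeCompl (Mm L (D ⧸ I))) := by
  have h1 : Module.Flat (D ⧸ I) (LocalizedModule
      (Algebra.algebraMapSubmonoid (MvPolynomial (Fin n) (D ⧸ I)) Q.primeCompl) (Mm L (D ⧸ I))) :=
    Module.Flat.isBaseChange (R := D) (S := D ⧸ I) (M := LocalizedModule Q.primeCompl (Mm L D)) _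
      (isBaseChange_locMap L D I Q.primeCompl)
  have hsurj : Function.Surjective
      (algebraMap (MvPolynomial (Fin n) D) (MvPolynomial (Fin n) (D ⧸ I))) :=
    MvPolynomial.map_surjective _ Ideal.Quotient.mk_surjective
  have hle : Algebra.algebraMapSubmonoid (MvPolynomial (Fin n) (D ⧸ I)) Q.primeCompl ≤
      Q'.primeCompl := by
    rintro _ ⟨x, hx, rfl⟩ hmem
    rw [hQ'] at hmem
    obtain ⟨y, hy, hxy⟩ := (Ideal.mem_map_iff_of_surjective _ hsurj).1 hmem
    have h2 : x - y ∈ Q := hker (by rw [RingHom.mem_ker, map_sub, hxy, sub_self])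
    have h3 : x ∈ Q := by
      have := Q.add_mem h2 hy
      rwa [sub_add_cancel] at this
    exact hx h3
  exact flat_of_isLocalizedModule_of_isLocalizedModule _ _ hle
    (LocalizedModule.mkLinearMap _ (Mm L (D ⧸ I))) (LocalizedModule.mkLinearMap _ (Mm L (D ⧸ I))) h1

/-- (T5b) flatness of `(M/I)_g` gives flatness of `(D/I) ⊗ M_g`. -/
theorem flat_tensor_localized_away (g : MvPolynomial (Fin n) D)
    (h : Module.Flat (D ⧸ I) (LocalizedModule (Submonoid.powers
      (algebraMap (MvPolynomial (Fin n) D) (MvPolynomial (Fin n) (D ⧸ I)) g)) (Mm L (D ⧸ I)))) :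
    Module.Flat (D ⧸ I) ((D ⧸ I) ⊗[D] LocalizedModule (Submonoid.powers g) (Mm L D)) := by
  have hle : Submonoid.powers
      (algebraMap (MvPolynomial (Fin n) D) (MvPolynomial (Fin n) (D ⧸ I)) g) ≤
      Algebra.algebraMapSubmonoid (MvPolynomial (Fin n) (D ⧸ I)) (Submonoid.powers g) := by
    rintro _ ⟨k, rfl⟩
    exact ⟨g ^ k, ⟨k, rfl⟩, map_pow _ _ _⟩
  have h1 : Module.Flat (D ⧸ I) (LocalizedModule
      (Algebra.algebraMapSubmonoid (MvPolynomial (Fin n) (D ⧸ I)) (Submonoid.powers g))
      (Mm L (D ⧸ I))) :=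
    flat_of_isLocalizedModule_of_isLocalizedModule _ _ hle
      (LocalizedModule.mkLinearMap _ (Mm L (D ⧸ I))) (LocalizedModule.mkLinearMap _ (Mm L (D ⧸ I))) h
  exact Module.Flat.of_linearEquiv (isBaseChange_locMap L D I (Submonoid.powers g)).equiv

end T5
end Groth.Agent.Lib.Helper14.FlatStage
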