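/-
Helper14 library (FlatOpen): openness of the flat locus for the model module, by Noetherian
induction on ideals of the Noetherian base ring (`ot_all`).
-/
import Groth.Agent.Lib.Helper14.FlatOpen.ModelBC
set_option autoImplicit false
universe u
open TensorProduct
attribute [local instance] MvPolynomial.algebraMvPolynomial
namespace Groth.Agent.Lib.Helper14.FlatStage
open FlatOpen

section Aux
variable {A S N : Type u} [CommRing A] [CommRing S] [Algebra A S]
  [AddCommGroup N] [Module A N] [Module S N] [IsScalarTower A S N]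

/-- flatness of the localization at (the image of) an element `a` of the base ring, as a
localization over the base ring. -/
theorem flat_base_localized_iff (a : A) :
    Module.Flat A (LocalizedModule (Submonoid.powers (algebraMap A S a)) N) ↔
      Module.Flat A (LocalizedModule (Submonoid.powers a) N) := by
  haveI : IsLocalizedModule (Submonoid.powers a)
      ((LocalizedModule.mkLinearMap (Submonoid.powers (algebraMap A S a)) N).restrictScalars A) :=
    IsLocalizedModule.restrictScalars_powers a _
  have e := IsLocalizedModule.linearEquiv (Submonoid.powers a)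
    (LocalizedModule.mkLinearMap (Submonoid.powers a) N)
    ((LocalizedModule.mkLinearMap (Submonoid.powers (algebraMap A S a)) N).restrictScalars A)
  exact ⟨fun h => Module.Flat.of_linearEquiv e, fun h => Module.Flat.of_linearEquiv e.symm⟩

theorem flat_localizedModule_prime_congr {Q₁ Q₂ : Ideal S} [Q₁.IsPrime] [Q₂.IsPrime] (h : Q₁ = Q₂)
    (hfl : Module.Flat A (LocalizedModule Q₁.primeCompl N)) :
    Module.Flat A (LocalizedModule Q₂.primeCompl N) := by
  subst h
  exact hfl

theorem FlatOnD.mul_right {g : S} (h : FlatOnD A N g) (h' : S) : FlatOnD A N (g * h') :=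
  fun Q _ hQ => h Q (fun hg => hQ (Q.mul_mem_right h' hg))

/-- pointwise flatness passes to a localization away from an element -/
theorem FlatOnD.away {f : S} (h : FlatOnD A N f) (g : S) :
    FlatOnD A (LocalizedModule (Submonoid.powers g) N) (algebraMap S (Localization.Away g) f) := by
  intro Q' _ hQ'
  rw [flat_prime_away_iff]
  exact h _ (fun hf => hQ' hf)

end Aux

instance finitePresentation_Mm {R₀ : Type u} [CommRing R₀] {n b : ℕ} {κ : Type} [Finite κ]
    (L : κ → Fm n b R₀) (D : Type u) [CommRing D] [Algebra R₀ D] :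
    Module.FinitePresentation (MvPolynomial (Fin n) D) (Mm L D) :=
  Module.finitePresentation_of_surjective (Km L D).mkQ (Submodule.mkQ_surjective _) (by
    rw [Submodule.ker_mkQ]
    exact Submodule.fg_span (Set.finite_range _))

section OT
variable {R₀ : Type u} [CommRing R₀] [IsNoetherianRing R₀] {n b : ℕ} {κ : Type} [Finite κ]
  (L : κ → Fm n b R₀)

/-- the inductive statement: openness of the flat locus over algebras killed by `J`. -/
def OT (J : Ideal R₀) : Prop :=
  ∀ (D : Type u) [CommRing D] [Algebra R₀ D], (∀ j ∈ J, algebraMap R₀ D j = 0) →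
    ∀ (Q : Ideal (MvPolynomial (Fin n) D)) [Q.IsPrime],
      Module.Flat D (LocalizedModule Q.primeCompl (Mm L D)) →
      ∃ g : MvPolynomial (Fin n) D, g ∉ Q ∧ FlatOnD D (Mm L D) g

theorem ot_step (J : Ideal R₀) (IH : ∀ J' > J, OT L J') : OT L J := by
  intro D _ _ hD Q hQp hQ
  by_cases hJ : J = ⊤
  · exfalso
    have h1 : (1 : D) = 0 := by
      have := hD 1 (by rw [hJ]; trivial)
      rwa [map_one] at this
    haveI : Subsingleton D := subsingleton_of_zero_eq_one h1.symm
    exact hQp.ne_top (Ideal.eq_top_of_isUnit_mem _ (Q.zero_mem) (by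
      rw [Subsingleton.elim (0 : MvPolynomial (Fin n) D) 1]; exact isUnit_one))
  obtain ⟨a, haJ, hsel⟩ := exists_sel L J hJ
  set ā : D := algebraMap R₀ D a with hā
  set α : MvPolynomial (Fin n) D := algebraMap D (MvPolynomial (Fin n) D) ā with hα
  have hαfl : FlatOnD D (Mm L D) α :=
    (flatOnD_iff α).2 ((flat_base_localized_iff ā).2 (hsel D hD))
  by_cases hαQ : α ∈ Q
  swap
  · exact ⟨α, hαQ, hαfl⟩
  -- main case
  set I : Ideal D := Ideal.span {ā} with hI
  have hlt : J < J ⊔ Ideal.span {a} := by
    refine lt_of_le_of_ne le_sup_left ?_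
    intro heq
    apply haJ
    rw [heq]
    exact (le_sup_right : Ideal.span {a} ≤ J ⊔ Ideal.span {a})
      (Ideal.subset_span (Set.mem_singleton a))
  have hD' : ∀ j ∈ J ⊔ Ideal.span {a}, algebraMap R₀ (D ⧸ I) j = 0 := by
    intro j hj
    obtain ⟨j₁, hj₁, s, hs, rfl⟩ := Submodule.mem_sup.1 hj
    obtain ⟨c, rfl⟩ := Ideal.mem_span_singleton'.1 hs
    rw [map_add, map_mul, IsScalarTower.algebraMap_apply R₀ D (D ⧸ I) j₁, hD j₁ hj₁, map_zero,
      zero_add, IsScalarTower.algebraMap_apply R₀ D (D ⧸ I) a]
    have : algebraMap D (D ⧸ I) (algebraMap R₀ D a) = 0 :=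
      Ideal.Quotient.eq_zero_iff_mem.2 (Ideal.subset_span (Set.mem_singleton _))
    rw [this, mul_zero]
  have hsurj : Function.Surjective
      (algebraMap (MvPolynomial (Fin n) D) (MvPolynomial (Fin n) (D ⧸ I))) :=
    MvPolynomial.map_surjective _ Ideal.Quotient.mk_surjective
  have hker : RingHom.ker (algebraMap (MvPolynomial (Fin n) D) (MvPolynomial (Fin n) (D ⧸ I))) ≤ Q := by
    have : RingHom.ker (algebraMap (MvPolynomial (Fin n) D) (MvPolynomial (Fin n) (D ⧸ I))) =
        (RingHom.ker (Ideal.Quotient.mk I)).map MvPolynomial.C := MvPolynomial.ker_map _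
    rw [this, Ideal.mk_ker, hI, Ideal.map_span, Set.image_singleton, Ideal.span_le,
      Set.singleton_subset_iff]
    exact hαQ
  haveI hQ'p : (Q.map (algebraMap (MvPolynomial (Fin n) D) (MvPolynomial (Fin n) (D ⧸ I)))).IsPrime :=
    Ideal.map_isPrime_of_surjective hsurj hker
  have hQ' := flat_quot_localized_prime L D I Q hker _ rfl hQ
  obtain ⟨g', hg', hflg'⟩ := IH _ hlt (D ⧸ I) hD' _ hQ'
  obtain ⟨g, rfl⟩ := hsurj g'
  have hgQ : g ∉ Q := fun h => hg' (Ideal.mem_map_of_mem _ h)
  -- Tor-vanishing near `Q`
  have H1 := flat_tensor_localized_away L D I g ((flatOnD_iff _).1 hflg')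
  have hdisj : Disjoint (Submonoid.powers g : Set (MvPolynomial (Fin n) D)) (Q : Set _) := by
    rw [Set.disjoint_left]
    rintro _ ⟨k, rfl⟩ hk
    exact hgQ (hQp.mem_of_pow_mem k hk)
  haveI hQ₁p : (Q.map (algebraMap (MvPolynomial (Fin n) D) (Localization.Away g))).IsPrime :=
    IsLocalization.isPrime_of_isPrime_disjoint (Submonoid.powers g) _ Q hQp hdisj
  have hcomap : (Q.map (algebraMap (MvPolynomial (Fin n) D) (Localization.Away g))).comap
      (algebraMap (MvPolynomial (Fin n) D) (Localization.Away g)) = Q :=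
    IsLocalization.under_map_of_isPrime_disjoint (Submonoid.powers g) _ hQp hdisj
  have hq₁ : Module.Flat D (LocalizedModule
      (Q.map (algebraMap (MvPolynomial (Fin n) D) (Localization.Away g))).primeCompl
      (LocalizedModule (Submonoid.powers g) (Mm L D))) := by
    rw [flat_prime_away_iff]
    exact flat_localizedModule_prime_congr hcomap.symm hQ
  obtain ⟨h', hh', hTV⟩ := exists_away_TVa (A := D) (S := Localization.Away g)
    (N := LocalizedModule (Submonoid.powers g) (Mm L D)) ā H1 _ hq₁
  obtain ⟨k, h, hk⟩ := IsLocalization.Away.surj g h'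
  have hhQ : h ∉ Q := by
    intro hmem
    have h2 : h' * algebraMap _ (Localization.Away g) g ^ k ∈
        Q.map (algebraMap (MvPolynomial (Fin n) D) (Localization.Away g)) := by
      rw [hk]; exact Ideal.mem_map_of_mem _ hmem
    rcases hQ₁p.mem_or_mem h2 with h3 | h3
    · exact hh' h3
    · exact hQ₁p.ne_top (Ideal.eq_top_of_isUnit_mem _ h3
        ((IsLocalization.Away.algebraMap_isUnit g).pow k))
  have hg₂Q : g * h ∉ Q := fun hmem => (hQp.mem_or_mem hmem).elim hgQ hhQ
  -- transfer `TVa` to `N_{gh}`
  haveI := isLocalizedModule_comp_away_away (N'' := LocalizedModule (Submonoid.powers h')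
      (LocalizedModule (Submonoid.powers g) (Mm L D))) g h h' k hk
    (LocalizedModule.mkLinearMap (Submonoid.powers g) (Mm L D))
    (LocalizedModule.mkLinearMap (Submonoid.powers h')
      (LocalizedModule (Submonoid.powers g) (Mm L D)))
  have iso₂ := IsLocalizedModule.linearEquiv (Submonoid.powers (g * h))
    (((LocalizedModule.mkLinearMap (Submonoid.powers h')
      (LocalizedModule (Submonoid.powers g) (Mm L D))).restrictScalars
        (MvPolynomial (Fin n) D)).comp
      (LocalizedModule.mkLinearMap (Submonoid.powers g) (Mm L D)))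
    (LocalizedModule.mkLinearMap (Submonoid.powers (g * h)) (Mm L D))
  have hTV₂ : TVa D (LocalizedModule (Submonoid.powers (g * h)) (Mm L D)) ā :=
    TVa_of_linearEquiv (iso₂.restrictScalars D) ā hTV
  -- flatness modulo `a` on `D(gh)`
  have H1₂ := flat_tensor_localized_away L D I (g * h) ((flatOnD_iff _).1 (by
    rw [map_mul]
    exact FlatOnD.mul_right hflg' _))
  -- flatness after inverting `a`
  have H3₂ : Module.Flat D (LocalizedModule (Submonoid.powers ā)
      (LocalizedModule (Submonoid.powers (g * h)) (Mm L D))) := by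
    rw [← flat_base_localized_iff (S := Localization.Away (g * h)), ← flatOnD_iff]
    have := FlatOnD.away hαfl (g * h)
    rwa [hα, ← IsScalarTower.algebraMap_apply] at this
  have hfl := flat_of_fp_criterion (A := D) (S := Localization.Away (g * h))
    (N := LocalizedModule (Submonoid.powers (g * h)) (Mm L D)) ā H1₂ hTV₂ H3₂
  exact ⟨g * h, hg₂Q, (flatOnD_iff _).2 hfl⟩

theorem ot_all (J : Ideal R₀) : OT L J :=
  IsNoetherian.induction (P := OT L) (fun J IH => ot_step L J IH) J

end OT
end Groth.Agent.Lib.Helper14.FlatStage
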