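/-
Helper14 library (FlatOpen): openness of the flat locus for finitely presented modules over
finitely presented algebras (`exists_flatOnD`).
-/
import Groth.Agent.Lib.Helper14.FlatOpen.Main
set_option autoImplicit false
universe u
open TensorProduct
attribute [local instance] MvPolynomial.algebraMvPolynomial
namespace Groth.Agent.Lib.Helper14.FlatOpen
open Groth.Agent.Lib.Helper14.FlatStage

section Compare
variable {A P S N M' : Type u} [CommRing A] [CommRing P] [CommRing S] [Algebra A P] [Algebra A S]
  [AddCommGroup N] [Module A N] [Module S N] [IsScalarTower A S N]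
  [AddCommGroup M'] [Module A M'] [Module P M'] [IsScalarTower A P M']

/-- localizing along a surjection of algebras and a semilinear isomorphism. -/
theorem flat_localized_comap_iff (π : P →ₐ[A] S) (hπ : Function.Surjective π)
    (iso : N ≃ₗ[A] M') (hsl : ∀ p x, iso (π p • x) = p • iso x) (q : Ideal S) [q.IsPrime] :
    Module.Flat A (LocalizedModule (q.comap π).primeCompl M') ↔
      Module.Flat A (LocalizedModule q.primeCompl N) := by
  letI : Algebra P S := π.toRingHom.toAlgebra
  haveI : IsScalarTower A P S := IsScalarTower.of_algebraMap_eq (fun r => (π.commutes r).symm)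
  letI : Module P N := Module.compHom N π.toRingHom
  haveI : IsScalarTower P S N := ⟨fun p s x => by
    show (π p * s) • x = π p • (s • x)
    exact mul_smul _ _ _⟩
  haveI : IsScalarTower A P N := ⟨fun r p x => by
    show π (r • p) • x = r • (π p • x)
    rw [map_smul, smul_assoc]⟩
  have heq : Algebra.algebraMapSubmonoid S (q.comap π).primeCompl = q.primeCompl := by
    ext s
    constructor
    · rintro ⟨p, hp, rfl⟩
      exact hp
    · intro hs
      obtain ⟨p, rfl⟩ := hπ s
      exact ⟨p, hs, rfl⟩
  haveI h1 : IsLocalizedModule (Algebra.algebraMapSubmonoid S (q.comap π).primeCompl)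
      (LocalizedModule.mkLinearMap q.primeCompl N) := by
    rw [heq]; infer_instance
  haveI h2 : IsLocalizedModule (q.comap π).primeCompl
      ((LocalizedModule.mkLinearMap q.primeCompl N).restrictScalars P) :=
    IsLocalizedModule.restrictScalars _ _
  let isoP : N ≃ₗ[P] M' :=
    { iso with
      map_smul' := fun p x => hsl p x }
  haveI h3 : IsLocalizedModule (q.comap π).primeCompl
      (((LocalizedModule.mkLinearMap q.primeCompl N).restrictScalars P).comp
        isoP.symm.toLinearMap) :=
    IsLocalizedModule.of_linearEquiv_right _ _ isoP.symm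
  constructor
  · intro h
    exact flat_of_isLocalizedModule_of_isLocalizedModule (A := A) (S := P)
      (q.comap π).primeCompl (q.comap π).primeCompl le_rfl
      (LocalizedModule.mkLinearMap (q.comap π).primeCompl M')
      (((LocalizedModule.mkLinearMap q.primeCompl N).restrictScalars P).comp
        isoP.symm.toLinearMap) h
  · intro h
    exact flat_of_isLocalizedModule_of_isLocalizedModule (A := A) (S := P)
      (q.comap π).primeCompl (q.comap π).primeCompl le_rfl
      (((LocalizedModule.mkLinearMap q.primeCompl N).restrictScalars P).comp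
        isoP.symm.toLinearMap)
      (LocalizedModule.mkLinearMap (q.comap π).primeCompl M') h

end Compare

/-- **openness of the flat locus, pointwise form**: if `N_q` is flat over `A` then `N` is flat
over `A` at all points of a basic open neighbourhood of `q`. -/
theorem exists_flatOnD {A S N : Type u} [CommRing A] [CommRing S] [Algebra A S]
    [Algebra.FinitePresentation A S] [AddCommGroup N] [Module S N] [Module A N]
    [IsScalarTower A S N] [Module.FinitePresentation S N] (q : Ideal S) [q.IsPrime]
    (hq : Module.Flat A (LocalizedModule q.primeCompl N)) :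
    ∃ g : S, g ∉ q ∧ FlatOnD A N g := by
  classical
  obtain ⟨n, b, e, R₀, hR₀, L, π, iso, -, hπ, hsl⟩ := exists_model' A S N ∅
  haveI : Algebra.FiniteType ℤ R₀ := (Subalgebra.fg_iff_finiteType R₀).1 hR₀
  haveI : IsNoetherianRing R₀ := Algebra.FiniteType.isNoetherianRing ℤ R₀
  haveI : (q.comap π).IsPrime := Ideal.comap_isPrime _ _
  have hQ := (flat_localized_comap_iff π hπ iso hsl q).2 hq
  obtain ⟨g₀, hg₀, hfl⟩ := ot_all L ⊥ A (fun j hj => by
    rw [(Ideal.mem_bot).1 hj, map_zero]) (q.comap π) hQ
  refine ⟨π g₀, hg₀, ?_⟩
  intro q' _ hq'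
  haveI : (q'.comap π).IsPrime := Ideal.comap_isPrime _ _
  exact (flat_localized_comap_iff π hπ iso hsl q').1 (hfl (q'.comap π) hq')

end Groth.Agent.Lib.Helper14.FlatOpen
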