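/-
Helper14 library (FlatOpen): relative version — flatness over `A` of localizations at a
general submonoid, in terms of the primes disjoint from the submonoid.
-/
import Groth.Agent.Lib.Helper14.FlatOpen.Loc

set_option autoImplicit false
universe u
open TensorProduct

namespace Groth.Agent.Lib.Helper14.FlatOpen

section LocLocGen
variable {S S' N N' N'' : Type*} [CommRing S] [CommRing S'] [Algebra S S'] (T : Submonoid S)
  [IsLocalization T S']
  [AddCommGroup N] [Module S N] [AddCommGroup N'] [Module S N'] [Module S' N']
  [IsScalarTower S S' N'] [AddCommGroup N''] [Module S N''] [Module S' N'']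
  [IsScalarTower S S' N'']

/-- localizing `T⁻¹N` at a prime `Q'` of `T⁻¹S` is the localization of `N` at the contraction. -/
theorem isLocalizedModule_comp_of_isLocalization (f : N →ₗ[S] N') [IsLocalizedModule T f]
    (Q' : Ideal S') [Q'.IsPrime] (l : N' →ₗ[S'] N'') [IsLocalizedModule Q'.primeCompl l] :
    IsLocalizedModule (Q'.comap (algebraMap S S')).primeCompl
      ((l.restrictScalars S).comp f) := by
  have hgQ : ∀ s ∈ T, algebraMap S S' s ∉ Q' := fun s hs h =>
    Ideal.IsPrime.ne_top inferInstance
      (Ideal.eq_top_of_isUnit_mem _ h (IsLocalization.map_units S' ⟨s, hs⟩))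
  have hnum : ∀ t' : S', ∃ (t : S) (s : S), s ∈ T ∧ t' * algebraMap S S' s = algebraMap S S' t := by
    intro t'
    obtain ⟨⟨t, ⟨s, hs⟩⟩, h⟩ := IsLocalization.surj T t'
    exact ⟨t, s, hs, h⟩
  constructor
  · intro s
    have hs : algebraMap S S' s ∈ Q'.primeCompl := s.2
    have h1 := IsLocalizedModule.map_units l ⟨algebraMap S S' s, hs⟩
    rw [Module.End.isUnit_iff] at h1 ⊢
    convert h1 using 1
    funext y
    simp only [Module.algebraMap_end_apply]
    exact (algebraMap_smul S' (s : S) y).symm
  · intro y
    obtain ⟨⟨x', t'⟩, h1⟩ := IsLocalizedModule.surj Q'.primeCompl l y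
    obtain ⟨⟨x, ⟨k, hk⟩⟩, h2⟩ := IsLocalizedModule.surj T f x'
    obtain ⟨t, m, hm, ht⟩ := hnum t'
    have htQ : t * k ∈ (Q'.comap (algebraMap S S')).primeCompl := by
      intro hmem
      have hmem' : algebraMap S S' (t * k) ∈ Q' := hmem
      rw [map_mul, ← ht] at hmem'
      rcases Ideal.IsPrime.mem_or_mem inferInstance hmem' with h | h
      · rcases Ideal.IsPrime.mem_or_mem inferInstance h with h | h
        · exact t'.2 h
        · exact hgQ m hm h
      · exact hgQ k hk h
    refine ⟨⟨m • x, ⟨t * k, htQ⟩⟩, ?_⟩
    have h1' : (t' : S') • y = l x' := h1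
    have h2' : k • x' = f x := h2
    show (t * k) • y = l (f (m • x))
    calc (t * k) • y = (algebraMap S S' (t * k)) • y := (algebraMap_smul S' _ y).symm
      _ = (algebraMap S S' m * algebraMap S S' k) • ((t' : S') • y) := by
          rw [map_mul, ← ht, ← mul_smul]; ring_nf
      _ = (algebraMap S S' m * algebraMap S S' k) • l x' := by rw [h1']
      _ = l ((algebraMap S S' m * algebraMap S S' k) • x') := (map_smul l _ _).symm
      _ = l (m • (k • x')) := by
          rw [mul_smul, algebraMap_smul, algebraMap_smul]
      _ = l (f (m • x)) := by rw [h2', ← f.map_smul]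
  · intro x₁ x₂ h
    simp only [LinearMap.comp_apply, LinearMap.restrictScalars_apply] at h
    obtain ⟨t', h1⟩ := IsLocalizedModule.exists_of_eq (S := Q'.primeCompl) (f := l) h
    obtain ⟨t, m, hm, ht⟩ := hnum t'
    have h2 : f (t • x₁) = f (t • x₂) := by
      rw [map_smul, map_smul, ← algebraMap_smul S' t, ← algebraMap_smul S' t (f x₂), ← ht,
        mul_comm, mul_smul, mul_smul]
      simp only [Submonoid.smul_def] at h1
      rw [h1]
    obtain ⟨⟨k, hk⟩, h3⟩ := IsLocalizedModule.exists_of_eq (S := T) (f := f) h2
    simp only [Submonoid.smul_def] at h3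
    have htQ : k * t ∈ (Q'.comap (algebraMap S S')).primeCompl := by
      intro hmem
      have hmem' : algebraMap S S' (k * t) ∈ Q' := hmem
      rw [map_mul] at hmem'
      rcases Ideal.IsPrime.mem_or_mem inferInstance hmem' with h | h
      · exact hgQ k hk h
      · have : t' * algebraMap S S' m ∈ Q' := by rw [ht]; exact h
        rcases Ideal.IsPrime.mem_or_mem inferInstance this with h | h
        · exact t'.2 h
        · exact hgQ m hm h
    refine ⟨⟨k * t, htQ⟩, ?_⟩
    simp only [Submonoid.smul_def]
    rw [mul_smul, mul_smul, h3]

end LocLocGen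

section SubmonoidFlat
variable {A S N : Type u} [CommRing A] [CommRing S] [Algebra A S]
  [AddCommGroup N] [Module A N] [Module S N] [IsScalarTower A S N]

theorem flat_prime_localization_iff (T : Submonoid S) (Q' : Ideal (Localization T)) [Q'.IsPrime] :
    Module.Flat A (LocalizedModule Q'.primeCompl (LocalizedModule T N)) ↔
      Module.Flat A (LocalizedModule (Q'.comap (algebraMap S (Localization T))).primeCompl N) := by
  haveI := isLocalizedModule_comp_of_isLocalization T (LocalizedModule.mkLinearMap T N) Q'
    (LocalizedModule.mkLinearMap Q'.primeCompl (LocalizedModule T N))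
  constructor
  · intro h
    exact flat_of_isLocalizedModule_of_isLocalizedModule
      (Q'.comap (algebraMap S (Localization T))).primeCompl
      (Q'.comap (algebraMap S (Localization T))).primeCompl le_rfl
      (((LocalizedModule.mkLinearMap Q'.primeCompl
        (LocalizedModule T N)).restrictScalars S).comp
        (LocalizedModule.mkLinearMap T N))
      (LocalizedModule.mkLinearMap (Q'.comap (algebraMap S (Localization T))).primeCompl N) h
  · intro h
    exact flat_of_isLocalizedModule_of_isLocalizedModule
      (Q'.comap (algebraMap S (Localization T))).primeCompl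
      (Q'.comap (algebraMap S (Localization T))).primeCompl le_rfl
      (LocalizedModule.mkLinearMap (Q'.comap (algebraMap S (Localization T))).primeCompl N)
      (((LocalizedModule.mkLinearMap Q'.primeCompl
        (LocalizedModule T N)).restrictScalars S).comp
        (LocalizedModule.mkLinearMap T N)) h

/-- flatness over `A` of `T⁻¹N` is equivalent to flatness of `N_Q` for all primes `Q`
disjoint from `T`. -/
theorem flat_localizedModule_submonoid_iff (T : Submonoid S) :
    Module.Flat A (LocalizedModule T N) ↔
      ∀ (Q : Ideal S) [Q.IsPrime], Disjoint (Q : Set S) (T : Set S) →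
        Module.Flat A (LocalizedModule Q.primeCompl N) := by
  constructor
  · intro h Q _ hQ
    have hle : T ≤ Q.primeCompl := by
      intro t ht htQ
      exact Set.disjoint_left.1 hQ htQ ht
    exact flat_of_isLocalizedModule_of_isLocalizedModule T Q.primeCompl hle
      (LocalizedModule.mkLinearMap T N)
      (LocalizedModule.mkLinearMap Q.primeCompl N) h
  · intro h
    refine Module.flat_of_isLocalized_maximal (R := A) (Localization T)
      (LocalizedModule T N)
      (fun P _ => LocalizedModule P.primeCompl (LocalizedModule T N))
      (fun P _ => LocalizedModule.mkLinearMap P.primeCompl _) ?_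
    intro P hP
    haveI : P.IsPrime := hP.isPrime
    rw [flat_prime_localization_iff]
    apply h
    rw [Set.disjoint_left]
    intro s hs hsT
    rw [SetLike.mem_coe, Ideal.mem_comap] at hs
    exact Ideal.IsPrime.ne_top inferInstance
      (Ideal.eq_top_of_isUnit_mem _ hs (IsLocalization.map_units (Localization T) ⟨s, hsT⟩))

end SubmonoidFlat

end Groth.Agent.Lib.Helper14.FlatOpen

namespace Groth.Agent.Lib.Helper14.FlatOpen

/-- localizing over `B` vs. over the `B`-algebra `C` -/
theorem flat_restrict_iff {A B C : Type u} [CommRing A] [CommRing B] [CommRing C]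
    [Algebra A B] [Algebra B C] [Algebra A C] [IsScalarTower A B C]
    (M : Type u) [AddCommGroup M] [Module C M] [Module B M] [Module A M]
    [IsScalarTower B C M] [IsScalarTower A C M] [IsScalarTower A B M] (T : Submonoid B) :
    Module.Flat A (LocalizedModule T M) ↔
      Module.Flat A (LocalizedModule (Algebra.algebraMapSubmonoid C T) M) := by
  have : IsLocalizedModule T
      ((LocalizedModule.mkLinearMap (Algebra.algebraMapSubmonoid C T) M).restrictScalars B) :=
    IsLocalizedModule.restrictScalars T _
  constructor
  · intro h
    exact flat_of_isLocalizedModule_of_isLocalizedModule (A := A) (S := B) T T le_rfl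
      (LocalizedModule.mkLinearMap T M)
      ((LocalizedModule.mkLinearMap (Algebra.algebraMapSubmonoid C T) M).restrictScalars B) h
  · intro h
    exact flat_of_isLocalizedModule_of_isLocalizedModule (A := A) (S := B) T T le_rfl
      ((LocalizedModule.mkLinearMap (Algebra.algebraMapSubmonoid C T) M).restrictScalars B)
      (LocalizedModule.mkLinearMap T M) h

end Groth.Agent.Lib.Helper14.FlatOpen
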