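/-
Helper14 library (FlatOpen): openness of the flat locus, relative form (localizing over an
intermediate ring `B`).
-/
import Groth.Agent.Lib.Helper14.FlatOpen.Rel
import Groth.Agent.Lib.Helper14.FlatOpen.Open

set_option autoImplicit false
universe u

namespace Groth.Agent.Lib.Helper14.FlatOpen

/-- openness of the flat locus, algebra form -/
theorem isOpen_flat_locus {R S M : Type u} [CommRing R] [CommRing S] [Algebra R S]
    [Algebra.FinitePresentation R S] [AddCommGroup M] [Module S M] [Module R M]
    [IsScalarTower R S M] [Module.FinitePresentation S M] :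
    IsOpen {q : PrimeSpectrum S | Module.Flat R (LocalizedModule q.asIdeal.primeCompl M)} := by
  rw [isOpen_iff_forall_mem_open]
  intro q hq
  obtain ⟨g, hg, hfl⟩ := exists_flatOnD (A := R) (N := M) q.asIdeal hq
  refine ⟨(PrimeSpectrum.basicOpen g : Set (PrimeSpectrum S)), ?_,
    (PrimeSpectrum.basicOpen g).isOpen, hg⟩
  intro q' hq'
  exact hfl q'.asIdeal hq'

/-- openness of the flat locus, relative form: `A → B → C`, `A → C` f.p., `M` f.p. over `C`;
the primes `q` of `B` with `M_q` flat over `A` form an open set. -/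
theorem isOpen_flat_locus_rel {A B C : Type u} [CommRing A] [CommRing B] [CommRing C]
    [Algebra A B] [Algebra B C] [Algebra A C] [IsScalarTower A B C]
    [Algebra.FinitePresentation A C]
    (M : Type u) [AddCommGroup M] [Module C M] [Module B M] [Module A M]
    [IsScalarTower B C M] [IsScalarTower A C M] [IsScalarTower A B M]
    [Module.FinitePresentation C M] :
    IsOpen {q : PrimeSpectrum B | Module.Flat A (LocalizedModule q.asIdeal.primeCompl M)} := by
  have hopen : IsOpen {Q : PrimeSpectrum C |
      Module.Flat A (LocalizedModule Q.asIdeal.primeCompl M)} := isOpen_flat_locus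
  rw [← isClosed_compl_iff, PrimeSpectrum.isClosed_iff_zeroLocus_ideal] at hopen
  obtain ⟨I, hI⟩ := hopen
  rw [← isClosed_compl_iff, PrimeSpectrum.isClosed_iff_zeroLocus_ideal]
  refine ⟨I.comap (algebraMap B C), ?_⟩
  ext q
  simp only [Set.mem_compl_iff, Set.mem_ofPred_eq, PrimeSpectrum.mem_zeroLocus,
    SetLike.coe_subset_coe]
  rw [flat_restrict_iff (C := C), flat_localizedModule_submonoid_iff]
  constructor
  · intro h
    by_contra hle
    apply h
    intro Q _ hQ
    by_contra hfl
    have hQI : (⟨Q, inferInstance⟩ : PrimeSpectrum C) ∈ PrimeSpectrum.zeroLocus (I : Set C) := by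
      rw [← hI]; exact hfl
    rw [PrimeSpectrum.mem_zeroLocus, SetLike.coe_subset_coe] at hQI
    apply hle
    intro b hb
    by_contra hbq
    have h1 : algebraMap B C b ∈ Q := hQI hb
    exact Set.disjoint_left.1 hQ h1 ⟨b, hbq, rfl⟩
  · intro hle h
    have hdisj : Disjoint (I : Set C)
        (Algebra.algebraMapSubmonoid C q.asIdeal.primeCompl : Set C) := by
      rw [Set.disjoint_left]
      rintro _ hc ⟨b, hb, rfl⟩
      exact hb (hle hc)
    obtain ⟨Q, hQp, hIQ, hQd⟩ := Ideal.exists_le_prime_disjoint I _ hdisj
    have hfl := h Q hQd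
    have hQI : (⟨Q, hQp⟩ : PrimeSpectrum C) ∈ PrimeSpectrum.zeroLocus (I : Set C) := by
      rw [PrimeSpectrum.mem_zeroLocus, SetLike.coe_subset_coe]; exact hIQ
    rw [← hI] at hQI
    exact hQI hfl

end Groth.Agent.Lib.Helper14.FlatOpen
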