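/-
Helper14 library (FlatOpen): openness of the flat locus of a finitely presented quasi-coherent
module on a scheme locally of finite presentation over a base.
Uses Helper1.FlatAffine (stalk flatness over sections) and Helper3 (stalks of quasi-coherent
modules are localizations; sections of f.p. modules are f.p.).
-/
import Groth.Agent.Lib.Helper14.FlatOpen.RelOpen
import Groth.Agent.Lib.Helper1.FlatAffine
import Groth.Agent.Lib.Helper3.QCProps
import Groth.Agent.Lib.Helper3.AffinePoints

set_option autoImplicit false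
set_option linter.style.haveILetI false
universe u
open CategoryTheory CategoryTheory.Limits AlgebraicGeometry TensorProduct Opposite

namespace Groth.Agent.Lib.Helper14.FlatOpen

open Groth.Agent.Lib.Helper3 Groth.Agent.Lib.Helper1.FlatAffine

variable {X S : Scheme.{u}} (f : X ⟶ S) (F : X.Modules) [F.IsQuasicoherent]
  {U : X.Opens} {V : S.Opens} (hU : IsAffineOpen U) (hV : IsAffineOpen V) (hUV : U ≤ f ⁻¹ᵁ V)

include hU hV in
/-- at a point of an affine `U ≤ f⁻¹V`: `F` is `f`-flat at `x` iff the localization of the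
sections `Γ(F,U)` at the prime of `x` is flat over `Γ(S,V)`. -/
theorem isFlatOverAt_iff_localizedModule (x : X) (hx : x ∈ U) :
    letI a0 : Algebra Γ(S, V) Γ(X, U) := (f.appLE V U hUV).hom.toAlgebra
    letI a1 : Module Γ(S, V) Γ(F, U) := Module.compHom _ (f.appLE V U hUV).hom
    haveI a2 : IsScalarTower Γ(S, V) Γ(X, U) Γ(F, U) :=
      IsScalarTower.of_algebraMap_smul fun r n => rfl
    FlatMod.IsFlatOverAt f F x ↔
      Module.Flat Γ(S, V) (LocalizedModule (hU.primeIdealOf ⟨x, hx⟩).asIdeal.primeCompl Γ(F, U)) := by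
  letI a0 : Algebra Γ(S, V) Γ(X, U) := (f.appLE V U hUV).hom.toAlgebra
  letI a1 : Module Γ(S, V) Γ(F, U) := Module.compHom _ (f.appLE V U hUV).hom
  haveI a2 : IsScalarTower Γ(S, V) Γ(X, U) Γ(F, U) :=
    IsScalarTower.of_algebraMap_smul fun r n => rfl
  rw [isFlatOverAt_iff f F hU hV hUV x hx]
  letI i1 : Algebra Γ(X, U) (X.presheaf.stalk x) :=
    TopCat.Presheaf.algebra_section_stalk X.presheaf (U := U) ⟨x, hx⟩
  letI i2 : Module Γ(X, U) (F.presheaf.stalk x) :=
    Module.compHom _ (algebraMap Γ(X, U) (X.presheaf.stalk x))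
  letI i3 : Module Γ(S, V) (F.presheaf.stalk x) := Module.compHom _ (f.appLE V U hUV).hom
  haveI i4 : IsScalarTower Γ(S, V) Γ(X, U) (F.presheaf.stalk x) :=
    IsScalarTower.of_algebraMap_smul fun r n => rfl
  let g : Γ(F, U) →ₗ[Γ(X, U)] F.presheaf.stalk x :=
    { toFun := F.presheaf.germ U x hx
      map_add' := map_add _
      map_smul' := fun r m => QS.germ_smul F x hx r m }
  haveI := QS.isLocalizedModule_germ hU F x hx (fun r y => rfl) g (fun m => rfl)
  constructor
  · intro h
    exact flat_of_isLocalizedModule_of_isLocalizedModule (A := Γ(S, V)) (S := Γ(X, U))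
      (hU.primeIdealOf ⟨x, hx⟩).asIdeal.primeCompl (hU.primeIdealOf ⟨x, hx⟩).asIdeal.primeCompl
      le_rfl g (LocalizedModule.mkLinearMap _ _) h
  · intro h
    exact flat_of_isLocalizedModule_of_isLocalizedModule (A := Γ(S, V)) (S := Γ(X, U))
      (hU.primeIdealOf ⟨x, hx⟩).asIdeal.primeCompl (hU.primeIdealOf ⟨x, hx⟩).asIdeal.primeCompl
      le_rfl (LocalizedModule.mkLinearMap _ _) g h

omit [F.IsQuasicoherent] in
/-- openness of the flat locus of a finitely presented module -/
theorem isOpen_isFlatOverAt [LocallyOfFinitePresentation f]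
    [SheafOfModules.IsFinitePresentation (R := X.ringCatSheaf) F] :
    IsOpen {x : X | FlatMod.IsFlatOverAt f F x} := by
  refine isOpen_iff_forall_mem_open.mpr fun x hx ↦ ?_
  obtain ⟨_, ⟨V, hV, rfl⟩, hxV, -⟩ :=
    S.isBasis_affineOpens.exists_subset_of_mem_open (Set.mem_univ (f x)) isOpen_univ
  obtain ⟨_, ⟨U, hU, rfl⟩, hxU, hUV⟩ :=
    X.isBasis_affineOpens.exists_subset_of_mem_open hxV (V.2.preimage f.continuous)
  letI a0 : Algebra Γ(S, V) Γ(X, U) := (f.appLE V U hUV).hom.toAlgebra
  letI a1 : Module Γ(S, V) Γ(F, U) := Module.compHom _ (f.appLE V U hUV).hom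
  haveI a2 : IsScalarTower Γ(S, V) Γ(X, U) Γ(F, U) :=
    IsScalarTower.of_algebraMap_smul fun r n => rfl
  haveI : Algebra.FinitePresentation Γ(S, V) Γ(X, U) := f.finitePresentation_appLE hV hU hUV
  haveI : Module.FinitePresentation Γ(X, U) Γ(F, U) := QCProps.finitePresentation_sections F hU
  have hfl := (isFlatOverAt_iff_localizedModule f F hU hV hUV x hxU).mp hx
  obtain ⟨g, hg, hD⟩ := exists_flatOnD (A := Γ(S, V)) (S := Γ(X, U)) (N := Γ(F, U))
    (hU.primeIdealOf ⟨x, hxU⟩).asIdeal hfl
  refine ⟨X.basicOpen g, ?_, (X.basicOpen g).2, ?_⟩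
  · intro y hy
    have hyU : y ∈ U := X.basicOpen_le g hy
    refine (isFlatOverAt_iff_localizedModule f F hU hV hUV y hyU).mpr ?_
    apply hD
    exact (mem_basicOpen_iff_notMem_primeIdealOf hU y hyU g).mp hy
  · exact (mem_basicOpen_iff_notMem_primeIdealOf hU x hxU g).mpr hg

end Groth.Agent.Lib.Helper14.FlatOpen
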