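/-
Helper14 library (FlatOpen): openness of the flat locus of a morphism of schemes l.f.p.
(stalkwise), mirroring Mathlib smooth-locus development.
-/
import Groth.Agent.Lib.Helper14.FlatOpen.RelOpen

set_option autoImplicit false
universe u
open AlgebraicGeometry CategoryTheory Limits
open Groth.Agent.Lib.Helper14.FlatOpen

namespace Groth.Agent.Lib.Helper14.FlatOpen

variable {X Y : Scheme.{u}}

lemma flat_stalkMap_iff {f : X ⟶ Y} {x : X} (U : Y.Opens)
      (hU : IsAffineOpen U) (V : X.Opens) (hV : IsAffineOpen V) (hVU : V ≤ f ⁻¹ᵁ U)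
      (hx : x ∈ V) :
    letI := (f.appLE U V hVU).hom.toAlgebra
    (f.stalkMap x).hom.Flat ↔
      Module.Flat Γ(Y, U) (LocalizedModule (hV.primeIdealOf ⟨x, hx⟩).asIdeal.primeCompl Γ(X, V)) := by
  let := (f.appLE U V hVU).hom.toAlgebra
  let p := (hU.primeIdealOf ⟨f x, hVU hx⟩).asIdeal
  let q := (hV.primeIdealOf ⟨x, hx⟩).asIdeal
  have : q.LiesOver p :=
    ⟨congr($(IsAffineOpen.comap_primeIdealOf_appLE U hU V hV hVU hx).1).symm⟩
  let := Localization.AtPrime.algebraOfLiesOver p q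
  trans Module.Flat (Localization.AtPrime p) (Localization.AtPrime q)
  · rw [← RingHom.flat_algebraMap_iff]
    exact RingHom.Flat.respectsIso.arrow_mk_iso_iff
      (IsAffineOpen.arrowStalkMapIso f U hU V hV hVU hx)
  · exact Module.flat_iff_of_isLocalization (Localization.AtPrime p) p.primeCompl (Localization.AtPrime q)

set_option backward.defeqAttrib.useBackward true in
set_option backward.isDefEq.respectTransparency false in
theorem isOpen_flat_stalkMap (f : X ⟶ Y) [LocallyOfFinitePresentation f] :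
    IsOpen {x : X | (f.stalkMap x).hom.Flat} := by
  refine isOpen_iff_forall_mem_open.mpr fun x hx ↦ ?_
  obtain ⟨_, ⟨U, hU, rfl⟩, hxU, -⟩ :=
    Y.isBasis_affineOpens.exists_subset_of_mem_open (Set.mem_univ (f x)) isOpen_univ
  obtain ⟨_, ⟨V, hV, rfl⟩, hxV, hVU⟩ :=
    X.isBasis_affineOpens.exists_subset_of_mem_open hxU (U.2.preimage f.continuous)
  have := f.finitePresentation_appLE hU hV hVU
  algebraize [(f.appLE U V hVU).hom]
  have hfl := (flat_stalkMap_iff U hU V hV hVU hxV).mp hx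
  obtain ⟨g, hg, hD⟩ := exists_flatOnD (A := Γ(Y, U)) (S := Γ(X, V)) (N := Γ(X, V))
    (hV.primeIdealOf ⟨x, hxV⟩).asIdeal hfl
  refine ⟨X.basicOpen g, ?_, (X.basicOpen g).2, ?_⟩
  · intro y hy
    have hyV : y ∈ V := X.basicOpen_le g hy
    refine (flat_stalkMap_iff U hU V hV hVU hyV).mpr ?_
    apply hD
    rw [← PrimeSpectrum.mem_basicOpen, IsAffineOpen.primeIdealOf,
      ← hV.fromSpec_preimage_basicOpen, Scheme.Hom.mem_preimage, ← Scheme.Hom.comp_apply,
      IsAffineOpen.isoSpec_hom, IsAffineOpen.toSpecΓ_fromSpec]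
    exact hy
  · rwa [← PrimeSpectrum.mem_basicOpen, IsAffineOpen.primeIdealOf,
      ← hV.fromSpec_preimage_basicOpen, Scheme.Hom.mem_preimage, ← Scheme.Hom.comp_apply,
      IsAffineOpen.isoSpec_hom, IsAffineOpen.toSpecΓ_fromSpec] at hg

end Groth.Agent.Lib.Helper14.FlatOpen
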