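/-
Helper14 library (FlatOpen): for `f : X ⟶ Y` quasi-compact, `g : Y ⟶ Z` with `f ≫ g` l.f.p. and a
f.p. quasi-coherent module `F` on `X`, the set of `y ∈ Y` such that `F` is flat over `Z` at all
points of `X` lying over generizations of `y` is open.
-/
import Groth.Agent.Lib.Helper14.FlatOpen.ModStalk

set_option autoImplicit false
set_option linter.style.haveILetI false
universe u
open CategoryTheory CategoryTheory.Limits AlgebraicGeometry TensorProduct Opposite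

namespace Groth.Agent.Lib.Helper14.FlatOpen

open Groth.Agent.Lib.Helper3 Groth.Agent.Lib.Helper1.FlatAffine

variable {X Y Z : Scheme.{u}}

theorem primeIdealOf_fromSpec {U : X.Opens} (hU : IsAffineOpen U) (Q : PrimeSpectrum Γ(X, U))
    (h : hU.fromSpec Q ∈ U) : hU.primeIdealOf ⟨hU.fromSpec Q, h⟩ = Q :=
  hU.fromSpec.isOpenEmbedding.injective (hU.fromSpec_primeIdealOf ⟨hU.fromSpec Q, h⟩)

theorem fromSpec_mem {U : X.Opens} (hU : IsAffineOpen U) (Q : PrimeSpectrum Γ(X, U)) :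
    hU.fromSpec Q ∈ U := by
  have : hU.fromSpec Q ∈ Set.range hU.fromSpec := ⟨Q, rfl⟩
  rwa [hU.range_fromSpec] at this

section Key
variable (f : X ⟶ Y) (g : Y ⟶ Z) (F : X.Modules) [F.IsQuasicoherent]
  {T : Z.Opens} (hT : IsAffineOpen T) {V : Y.Opens} (hV : IsAffineOpen V) (eV : V ≤ g ⁻¹ᵁ T)
  {W : X.Opens} (hW : IsAffineOpen W) (eW : W ≤ f ⁻¹ᵁ V)

include hT hV hW eV eW in
theorem isOpen_chart [LocallyOfFinitePresentation (f ≫ g)]
    [SheafOfModules.IsFinitePresentation (R := X.ringCatSheaf) F] (e : W ≤ (f ≫ g) ⁻¹ᵁ T) :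
    IsOpen {q : PrimeSpectrum Γ(Y, V) |
      ∀ x ∈ W, f x ⤳ hV.fromSpec q → FlatMod.IsFlatOverAt (f ≫ g) F x} := by
  letI a1 : Algebra Γ(Z, T) Γ(Y, V) := (g.appLE T V eV).hom.toAlgebra
  letI a2 : Algebra Γ(Y, V) Γ(X, W) := (f.appLE V W eW).hom.toAlgebra
  letI a3 : Algebra Γ(Z, T) Γ(X, W) := ((f ≫ g).appLE T W e).hom.toAlgebra
  letI m1 : Module Γ(Z, T) Γ(F, W) := Module.compHom _ ((f ≫ g).appLE T W e).hom
  letI m2 : Module Γ(Y, V) Γ(F, W) := Module.compHom _ (f.appLE V W eW).hom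
  have hcomp : (f ≫ g).appLE T W e = g.appLE T V eV ≫ f.appLE V W eW :=
    (Scheme.Hom.appLE_comp_appLE f g T V W eV eW).symm
  haveI t1 : IsScalarTower Γ(Z, T) Γ(Y, V) Γ(X, W) :=
    IsScalarTower.of_algebraMap_eq (fun a => by
      show ((f ≫ g).appLE T W e).hom a = (f.appLE V W eW).hom ((g.appLE T V eV).hom a)
      rw [hcomp]; rfl)
  haveI t2 : IsScalarTower Γ(Y, V) Γ(X, W) Γ(F, W) :=
    IsScalarTower.of_algebraMap_smul fun r n => rfl
  haveI t3 : IsScalarTower Γ(Z, T) Γ(X, W) Γ(F, W) :=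
    IsScalarTower.of_algebraMap_smul fun r n => rfl
  haveI t4 : IsScalarTower Γ(Z, T) Γ(Y, V) Γ(F, W) :=
    IsScalarTower.of_algebraMap_smul fun r n => by
      show (f.appLE V W eW).hom ((g.appLE T V eV).hom r) • n = ((f ≫ g).appLE T W e).hom r • n
      rw [hcomp]; rfl
  haveI : Algebra.FinitePresentation Γ(Z, T) Γ(X, W) := (f ≫ g).finitePresentation_appLE hT hW e
  haveI : Module.FinitePresentation Γ(X, W) Γ(F, W) := QCProps.finitePresentation_sections F hW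
  have hopen := isOpen_flat_locus_rel (A := Γ(Z, T)) (B := Γ(Y, V)) (C := Γ(X, W)) Γ(F, W)
  convert hopen using 1
  ext q
  simp only [Set.mem_ofPred_eq]
  have hyV : hV.fromSpec q ∈ V := fromSpec_mem hV q
  have hqy : hV.primeIdealOf ⟨hV.fromSpec q, hyV⟩ = q := primeIdealOf_fromSpec hV q hyV
  rw [flat_restrict_iff (A := Γ(Z, T)) (B := Γ(Y, V)) (C := Γ(X, W)),
    flat_localizedModule_submonoid_iff]
  constructor
  · intro h Q hQp hQ
    have hxW := fromSpec_mem hW ⟨Q, hQp⟩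
    have hQeq := primeIdealOf_fromSpec hW ⟨Q, hQp⟩ hxW
    have hsp : f (hW.fromSpec ⟨Q, hQp⟩) ⤳ hV.fromSpec q := by
      rw [← primeIdealOf_le_iff_specializes hV _ _ (eW hxW) hyV]
      have h1 := IsAffineOpen.comap_primeIdealOf_appLE V hV W hW eW hxW
      rw [← h1, hQeq, hqy]
      intro b hb
      by_contra hbq
      exact Set.disjoint_left.1 hQ hb ⟨b, hbq, rfl⟩
    have h3 := (isFlatOverAt_iff_localizedModule (f ≫ g) F hW hT e _ hxW).1 (h _ hxW hsp)
    exact Groth.Agent.Lib.Helper14.FlatStage.flat_localizedModule_prime_congr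
      (congrArg PrimeSpectrum.asIdeal hQeq) h3
  · intro h x hx hsp
    rw [isFlatOverAt_iff_localizedModule (f ≫ g) F hW hT e x hx]
    apply h
    rw [Set.disjoint_left]
    rintro _ hc ⟨b, hb, rfl⟩
    apply hb
    have h1 := IsAffineOpen.comap_primeIdealOf_appLE V hV W hW eW hx
    have h2 := (primeIdealOf_le_iff_specializes hV (f x) _ (eW hx) hyV).2 hsp
    rw [hqy] at h2
    apply h2
    rw [← h1]
    exact hc

end Key

/-- the set of `y` such that `F` is flat over `Z` at all points over generizations of `y` is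
open. -/
theorem isOpen_setOf_flat_over_generizations (f : X ⟶ Y) (g : Y ⟶ Z) [QuasiCompact f]
    [LocallyOfFinitePresentation (f ≫ g)] (F : X.Modules) [F.IsQuasicoherent]
    [SheafOfModules.IsFinitePresentation (R := X.ringCatSheaf) F] :
    IsOpen {y : Y | ∀ y' : Y, y' ⤳ y → ∀ x : X, f x = y' →
      FlatMod.IsFlatOverAt (f ≫ g) F x} := by
  refine isOpen_iff_forall_mem_open.mpr fun y₀ hy₀ ↦ ?_
  obtain ⟨_, ⟨T, hT, rfl⟩, hyT, -⟩ :=
    Z.isBasis_affineOpens.exists_subset_of_mem_open (Set.mem_univ (g y₀)) isOpen_univ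
  obtain ⟨_, ⟨V, hV, rfl⟩, hyV, hVT⟩ :=
    Y.isBasis_affineOpens.exists_subset_of_mem_open hyT (T.2.preimage g.continuous)
  have eV : V ≤ g ⁻¹ᵁ T := hVT
  have hcpt : IsCompact ((f ⁻¹ᵁ V : X.Opens) : Set X) := f.isCompact_preimage hV.isCompact
  obtain ⟨s, hs, hsU⟩ := isCompact_iff_finite_and_eq_biUnion_affineOpens.mp hcpt
  have hWle : ∀ W ∈ s, (W : X.Opens) ≤ f ⁻¹ᵁ V := by
    intro W hW
    rw [hsU]
    exact le_biSup (fun i : X.affineOpens => (i : X.Opens)) hW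
  let O : Set (PrimeSpectrum Γ(Y, V)) := ⋂ W ∈ s, {q |
    ∀ x ∈ (W : X.Opens), f x ⤳ hV.fromSpec q → FlatMod.IsFlatOverAt (f ≫ g) F x}
  have hO : IsOpen O := by
    refine hs.isOpen_biInter (fun W hW => ?_)
    have eW := hWle W hW
    have e : (W : X.Opens) ≤ (f ≫ g) ⁻¹ᵁ T := fun x hx => eV (eW hx)
    exact isOpen_chart f g F hT hV eV W.2 eW e
  refine ⟨hV.fromSpec '' O, ?_, hV.fromSpec.isOpenEmbedding.isOpenMap _ hO, ?_⟩
  · rintro _ ⟨q, hq, rfl⟩ y' hsp x hx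
    have hyV' : hV.fromSpec q ∈ V := fromSpec_mem hV q
    have hy'V : y' ∈ V := hsp.mem_open V.isOpen hyV'
    have hxV : x ∈ f ⁻¹ᵁ V := by
      show f x ∈ V
      rw [hx]; exact hy'V
    rw [hsU] at hxV
    simp only [TopologicalSpace.Opens.mem_iSup] at hxV
    obtain ⟨W, hW, hxW⟩ := hxV
    have := Set.mem_iInter₂.1 hq W hW
    exact this x hxW (hx ▸ hsp)
  · refine ⟨hV.primeIdealOf ⟨y₀, hyV⟩, ?_, hV.fromSpec_primeIdealOf ⟨y₀, hyV⟩⟩
    refine Set.mem_iInter₂.2 (fun W hW x hx hsp => ?_)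
    rw [hV.fromSpec_primeIdealOf ⟨y₀, hyV⟩] at hsp
    exact hy₀ (f x) hsp x rfl

end Groth.Agent.Lib.Helper14.FlatOpen
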