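/-
Helper14 library (FlatOpen): flatness of a finitely presented module modulo a (not nec. f.g.)
ideal `I S` descends to flatness modulo `I₀ S` for some finitely generated `I₀ ≤ I`.
-/
import Groth.Agent.Lib.Helper14.FlatOpen.Crit
import Groth.Agent.Lib.Helper14.FlatStage.Interface

set_option autoImplicit false
universe u
open TensorProduct
attribute [local instance] MvPolynomial.algebraMvPolynomial

namespace Groth.Agent.Lib.Helper14.FlatOpen
open Groth.Agent.Lib.Helper14.FlatStage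

theorem exists_fg_le_mem_map {R S : Type*} [CommRing R] [CommRing S] (f : R →+* S) (I : Ideal R)
    (x : S) (hx : x ∈ I.map f) : ∃ I₀ : Ideal R, I₀.FG ∧ I₀ ≤ I ∧ x ∈ I₀.map f := by
  classical
  obtain ⟨T, hT, hxT⟩ := Submodule.mem_span_finite_of_mem_span (show x ∈ Submodule.span S (f '' I) from hx)
  have h1 : ∀ t ∈ T, ∃ r, r ∈ I ∧ f r = t := fun t ht => hT ht
  choose! g hgI hgt using h1
  refine ⟨Ideal.span ((T.image g : Finset R) : Set R), ⟨T.image g, rfl⟩, ?_, ?_⟩
  · rw [Ideal.span_le]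
    intro r hr
    rw [Finset.mem_coe, Finset.mem_image] at hr
    obtain ⟨t, ht, rfl⟩ := hr
    exact hgI t ht
  · have hle : Submodule.span S (T : Set S) ≤
        (Ideal.span ((T.image g : Finset R) : Set R)).map f := by
      rw [Submodule.span_le]
      intro t ht
      rw [← hgt t ht]
      exact Ideal.mem_map_of_mem f (Ideal.subset_span (Finset.mem_coe.2 (Finset.mem_image_of_mem g ht)))
    exact hle hxT

theorem exists_fg_le_forall_mem_map {R S : Type*} [CommRing R] [CommRing S] (f : R →+* S)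
    (I : Ideal R) (T : Finset S) (hT : ∀ x ∈ T, x ∈ I.map f) :
    ∃ I₀ : Ideal R, I₀.FG ∧ I₀ ≤ I ∧ ∀ x ∈ T, x ∈ I₀.map f := by
  classical
  have h1 : ∀ x ∈ T, ∃ I₀ : Ideal R, I₀.FG ∧ I₀ ≤ I ∧ x ∈ I₀.map f :=
    fun x hx => exists_fg_le_mem_map f I x (hT x hx)
  choose! J hJfg hJle hJmem using h1
  refine ⟨T.sup J, ?_, ?_, ?_⟩
  · exact Submodule.fg_finset_sup T J hJfg
  · exact Finset.sup_le hJle
  · intro x hx
    exact Ideal.map_mono (Finset.le_sup hx) (hJmem x hx)

/-- a finitely generated subalgebra of `S / I S` (over a Noetherian ring `R₀`) maps to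
`S / I₀ S` for some finitely generated `I₀ ≤ I`. -/
theorem exists_fg_le_algHom {R₀ R S : Type u} [CommRing R₀] [IsNoetherianRing R₀] [CommRing R]
    [CommRing S] [Algebra R S] [Algebra R₀ S] (I : Ideal R)
    (C : Subalgebra R₀ (S ⧸ I.map (algebraMap R S))) (hC : C.FG) :
    ∃ I₀ : Ideal R, I₀.FG ∧ I₀ ≤ I ∧
      Nonempty (C →ₐ[R₀] S ⧸ I₀.map (algebraMap R S)) := by
  classical
  haveI : Algebra.FiniteType R₀ C := (Subalgebra.fg_iff_finiteType C).1 hC
  haveI : Algebra.FinitePresentation R₀ C :=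
    Algebra.FinitePresentation.of_finiteType.1 inferInstance
  obtain ⟨m, ρ, hρ, T, hT⟩ := Algebra.FinitePresentation.out (R := R₀) (A := C)
  have h1 : ∀ k : Fin m, ∃ s : S,
      Ideal.Quotient.mk (I.map (algebraMap R S)) s = (ρ (MvPolynomial.X k) : S ⧸ _) :=
    fun k => Ideal.Quotient.mk_surjective _
  choose s hs using h1
  let σ : MvPolynomial (Fin m) R₀ →ₐ[R₀] S := MvPolynomial.aeval s
  have hσ : ∀ p, Ideal.Quotient.mk (I.map (algebraMap R S)) (σ p) = (ρ p : S ⧸ _) := by
    intro p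
    have : (Ideal.Quotient.mkₐ R₀ (I.map (algebraMap R S))).comp σ = C.val.comp ρ := by
      apply MvPolynomial.algHom_ext
      intro k
      simp only [AlgHom.comp_apply, σ, MvPolynomial.aeval_X]
      exact hs k
    exact congrArg (fun φ => φ p) this
  have h2 : ∀ x ∈ T.image σ, x ∈ I.map (algebraMap R S) := by
    intro x hx
    rw [Finset.mem_image] at hx
    obtain ⟨t, ht, rfl⟩ := hx
    rw [← Ideal.Quotient.eq_zero_iff_mem, hσ]
    have : t ∈ RingHom.ker ρ.toRingHom := by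
      rw [← hT]; exact Ideal.subset_span ht
    have h0 : ρ t = 0 := this
    rw [h0]
    rfl
  obtain ⟨I₀, hfg, hle, hmem⟩ := exists_fg_le_forall_mem_map (algebraMap R S) I _ h2
  refine ⟨I₀, hfg, hle, ?_⟩
  let σ' : MvPolynomial (Fin m) R₀ →ₐ[R₀] S ⧸ I₀.map (algebraMap R S) :=
    (Ideal.Quotient.mkₐ R₀ (I₀.map (algebraMap R S))).comp σ
  have hker' : ∀ p, p ∈ RingHom.ker ρ.toRingHom → σ' p = 0 := by
    intro p hp
    rw [← hT] at hp
    have hle' : Ideal.span (T : Set (MvPolynomial (Fin m) R₀)) ≤ RingHom.ker σ'.toRingHom := by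
      rw [Ideal.span_le]
      intro t ht
      show σ' t = 0
      show Ideal.Quotient.mk _ (σ t) = 0
      rw [Ideal.Quotient.eq_zero_iff_mem]
      exact hmem _ (Finset.mem_image_of_mem σ ht)
    exact hle' hp
  exact ⟨(Ideal.Quotient.liftₐ (RingHom.ker ρ.toRingHom) σ' hker').comp
    (Ideal.quotientKerAlgEquivOfSurjective hρ).symm.toAlgHom⟩

/-- flatness modulo `I S` of a finitely presented module over a finitely presented `S`-algebra
descends to flatness modulo `I₀ S` for a finitely generated `I₀ ≤ I`. -/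
theorem exists_fg_le_flat_quot {R S S' M : Type u} [CommRing R] [CommRing S] [CommRing S']
    [Algebra R S] [Algebra S S'] [Algebra.FinitePresentation S S'] (I : Ideal R)
    [AddCommGroup M] [Module S' M] [Module S M] [IsScalarTower S S' M]
    [Module.FinitePresentation S' M]
    (h : Module.Flat (S ⧸ I.map (algebraMap R S)) ((S ⧸ I.map (algebraMap R S)) ⊗[S] M)) :
    ∃ I₀ : Ideal R, I₀.FG ∧ I₀ ≤ I ∧
      Module.Flat (S ⧸ I₀.map (algebraMap R S)) ((S ⧸ I₀.map (algebraMap R S)) ⊗[S] M) := by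
  classical
  obtain ⟨n, b, e, R₀, hR₀, L, ⟨iso⟩⟩ := exists_model S S' M
  haveI : Algebra.FiniteType ℤ R₀ := (Subalgebra.fg_iff_finiteType R₀).1 hR₀
  haveI : IsNoetherianRing R₀ := Algebra.FiniteType.isNoetherianRing ℤ R₀
  have c1 := flat_model_quot_of_flat_tensor L iso (I.map (algebraMap R S)) h
  obtain ⟨C, hC, hfl⟩ := exists_fg_flat L (S ⧸ I.map (algebraMap R S)) c1
  obtain ⟨I₀, hfg, hle, ⟨φ⟩⟩ := exists_fg_le_algHom (R₀ := R₀) I C hC
  refine ⟨I₀, hfg, hle, ?_⟩
  have c2 : Module.Flat (S ⧸ I₀.map (algebraMap R S)) (Mm L (S ⧸ I₀.map (algebraMap R S))) :=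
    flat_of_algHom L φ hfl
  exact flat_tensor_of_flat_model_quot L iso (I₀.map (algebraMap R S)) c2

end Groth.Agent.Lib.Helper14.FlatOpen
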